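import Cfsg.Agent.Lib.Sp6Mult.Upper
import Cfsg.Agent.Lib.Co2Type.Gens

/-!
A group generated by seven involutions with the relations of the diagram `E₇` in which the ninth power of the
Coxeter element is trivial has order at most that of `Sp₆(2)`.
-/

set_option autoImplicit false
set_option linter.style.haveILetI false

namespace Cfsg.Agent.Co2Type.Code

open Cfsg.Agent.Sp6Mult

/-- The node of the diagram for a node of the standard diagram. -/
def node : Fin 7 → Fin 7 := ![0, 6, 1, 2, 3, 4, 5]

theorem node_adj : ∀ i j : Fin 7,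
    (cm i j = 2 → adj (node i) (node j) = false) ∧ (cm i j = 3 → adj (node i) (node j) = true) := by
  intro i j
  fin_cases i <;> fin_cases j <;> decide +kernel

theorem card_closure_le {G : Type*} [Group G] (a : Fin 7 → G) (hsq : ∀ k, a k * a k = 1)
    (hc : ∀ k l, adj k l = false → a k * a l = a l * a k)
    (hb : ∀ k l, adj k l = true → a k * a l * a k = a l * a k * a l)
    (hcox : (a 0 * a 1 * a 2 * a 3 * a 4 * a 5 * a 6) ^ 9 = 1) :
    Finite (Subgroup.closure (Set.range a)) ∧ Nat.card (Subgroup.closure (Set.range a)) ≤ 1451520 := by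
  have hlift : cm.IsLiftable fun i => a (node i) :=
    isLiftable (fun i => hsq _) (fun i j h => hc _ _ ((node_adj i j).1 h))
      (fun i j h => hb _ _ ((node_adj i j).2 h))
  let π : WGr →* G := csys.lift ⟨_, hlift⟩
  have hs : ∀ i, π (csys.simple i) = a (node i) := fun i => CoxeterSystem.lift_apply_simple _ hlift i
  let sgn : WGr →* ℤˣ := csys.lift ⟨fun _ => -1, fun i j => by simp⟩
  have hsg : ∀ i, sgn (csys.simple i) = -1 := fun i => CoxeterSystem.lift_apply_simple _ _ i
  let w₀ : WGr := (csys.simple 0 * csys.simple 2 * csys.simple 3 * csys.simple 4 * csys.simple 5 *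
    csys.simple 6 * csys.simple 1) ^ 9
  have hw : π w₀ = 1 := by
    simp only [w₀, map_pow, map_mul, hs]
    exact hcox
  have hne : w₀ ≠ 1 := fun e => by
    have h := congrArg sgn e
    simp only [w₀, map_pow, map_mul, map_one, hsg] at h
    exact absurd h (by decide)
  have hcard : Nat.card WGr = 2903040 := Chevalley.Types.CoxE7.card_eq
  haveI : Finite WGr := Nat.finite_of_card_ne_zero (by rw [hcard]; norm_num)
  have hrange : Subgroup.closure (Set.range a) ≤ π.range := by
    rw [Subgroup.closure_le]
    rintro _ ⟨k, rfl⟩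
    obtain ⟨i, rfl⟩ : ∃ i, node i = k := (by decide : ∀ k : Fin 7, ∃ i, node i = k) k
    exact ⟨csys.simple i, hs i⟩
  haveI : Finite π.range := Finite.of_surjective _ π.rangeRestrict_surjective
  refine ⟨Finite.of_injective _ (Subgroup.inclusion_injective hrange), (Subgroup.card_le_of_le hrange).trans ?_⟩
  haveI : Nontrivial π.ker := ⟨⟨⟨w₀, hw⟩, 1, fun e => hne (congrArg Subtype.val e)⟩⟩
  have h2 : 1 < Nat.card π.ker := Finite.one_lt_card
  have h := Subgroup.card_eq_card_quotient_mul_card_subgroup π.ker
  rw [Nat.card_congr (QuotientGroup.quotientKerEquivRange π).toEquiv, hcard] at h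
  have h3 := Nat.mul_le_mul_left (Nat.card π.range) h2
  omega

end Cfsg.Agent.Co2Type.Code
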