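import Cfsg.Agent.Lib.Co2Type.Code.Lower
import Cfsg.Agent.Lib.Co2Type.Code.Upper

/-!
The order of the code group.
-/

set_option autoImplicit false

namespace Cfsg.Agent.Co2Type.Code

theorem imgs_one' : imgs 1 = stdImg := congrArg Prod.snd code_one

theorem autA_rel : ∀ k l : Fin 7,
    (adj k l = false → (autImg l).map (appL (autImg k)) = (autImg k).map (appL (autImg l))) ∧
    (adj k l = true → ((autImg k).map (appL (autImg l))).map (appL (autImg k)) =
      ((autImg l).map (appL (autImg k))).map (appL (autImg l))) := by
  decide +kernel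

theorem autA_cox : Nat.iterate (fun v => ([0, 1, 2, 3, 4, 5, 6] : List (Fin 7)).foldr
    (fun k r => r.map (appL (autImg k))) v) 9 stdImg = stdImg := by
  decide +kernel

theorem imgs_autA_mul (k : Fin 7) (x : MulAut Q8) : imgs (autA k * x) = (imgs x).map (appL (autImg k)) := by
  rw [imgs_mul, imgs_autA]

theorem card_W : Nat.card W = 1451520 := by
  have hp : ∀ n, imgs ((autA 0 * autA 1 * autA 2 * autA 3 * autA 4 * autA 5 * autA 6) ^ n) =
      Nat.iterate (fun v => ([0, 1, 2, 3, 4, 5, 6] : List (Fin 7)).foldr
        (fun k r => r.map (appL (autImg k))) v) n stdImg := by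
    intro n
    induction n with
    | zero => rw [pow_zero]; exact imgs_one'
    | succ n ih =>
      rw [pow_succ', Function.iterate_succ_apply', ← ih]
      simp only [List.foldr, mul_assoc, imgs_autA_mul]
  obtain ⟨-, hle⟩ := card_closure_le autA
    (fun k => MulEquiv.ext fun a => autFun_autFun k a)
    (fun k l h => imgs_injective (by rw [imgs_autA_mul, imgs_autA_mul, imgs_autA, imgs_autA]; exact (autA_rel k l).1 h))
    (fun k l h => imgs_injective (by
      rw [mul_assoc, mul_assoc, imgs_autA_mul, imgs_autA_mul, imgs_autA_mul, imgs_autA_mul, imgs_autA, imgs_autA]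
      exact (autA_rel k l).2 h))
    (imgs_injective (by rw [hp, autA_cox, imgs_one']))
  exact le_antisymm hle card_W_ge

theorem card_C0 : Nat.card C0 = 743178240 := by
  rw [Nat.card_congr SemidirectProduct.equivProd, Nat.card_prod, card_Q8, card_W]

end Cfsg.Agent.Co2Type.Code
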