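import Cfsg.Agent.Lib.Co2Type.Code.Auto
import Cfsg.Agent.Lib.Co2Type.Defs
import Mathlib.Algebra.Group.Conj

/-!
The points of the code group used by the recognition: the involution, the edge, the swap's pairs, the
triangle and the roots.
-/

set_option autoImplicit false

namespace Cfsg.Agent.Co2Type.Code

/-- The word of the central involution. -/
def tauW : List (Fin 15) := [0, 7, 0, 7]

/-- The word of the lift of a transvection. -/
def rootAW : List (Fin 15) := [8]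

/-- The word of the neighbour. -/
def alphaW : List (Fin 15) :=
  [0, 2, 5, 6, 7, 8, 9, 8, 10, 9, 8, 11, 10, 9, 8, 12, 11, 10, 9, 8, 14, 10, 9, 8, 11, 10, 9, 12, 11, 10, 14, 10, 9, 8, 11, 10, 9, 12, 11, 10, 14]

/-- The words of the pairs exchanged by the swap, closed under reversal. -/
def pairsW : List (List (Fin 15) × List (Fin 15)) :=
  [ ([2, 14], [7, 14]),
    ([7, 14], [2, 14]),
    ([1, 4, 5, 7, 10], [1, 4, 5, 7, 10]),
    ([5, 10], [1, 2, 3, 4, 5, 9, 10, 11, 10, 9]),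
    ([1, 2, 3, 4, 5, 9, 10, 11, 10, 9], [5, 10]),
    ([4, 5, 10], [1, 3, 4, 5, 6, 7, 0, 7, 0, 7, 8, 9, 10, 11, 12, 11, 10, 9, 8]),
    ([3, 5, 6, 8, 9, 10, 11, 12, 11, 10, 9, 8], [2, 3, 4, 5, 7, 9, 10, 11, 10, 9]),
    ([3, 9, 10, 9, 11, 10, 9, 14, 10, 9, 11, 10, 14], [0, 1, 2, 3, 4, 5, 0, 7, 0, 7, 8, 9, 10, 9, 12, 11, 10, 9, 14, 10, 9, 8, 11, 10, 12, 14]),
    ([0, 1, 2, 3, 4, 5, 0, 7, 0, 7, 8, 9, 10, 9, 12, 11, 10, 9, 14, 10, 9, 8, 11, 10, 12, 14], [3, 9, 10, 9, 11, 10, 9, 14, 10, 9, 11, 10, 14]),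
    ([9, 8, 10, 9, 13, 12, 11, 10, 14, 10, 9, 8, 11, 10, 9, 12, 13], [0, 4, 5, 0, 7, 0, 7, 8, 9, 8, 10, 9, 12, 13, 12, 14, 10, 9, 11, 10, 12, 11, 13, 12, 14, 10, 9, 8, 11, 10, 9, 14]),
    ([1, 3, 4, 5, 6, 7, 0, 7, 0, 7, 8, 9, 10, 11, 12, 11, 10, 9, 8], [4, 5, 10]),
    ([2, 3, 4, 5, 7, 9, 10, 11, 10, 9], [3, 5, 6, 8, 9, 10, 11, 12, 11, 10, 9, 8]),
    ([0, 4, 5, 0, 7, 0, 7, 8, 9, 8, 10, 9, 12, 13, 12, 14, 10, 9, 11, 10, 12, 11, 13, 12, 14, 10, 9, 8, 11, 10, 9, 14], [9, 8, 10, 9, 13, 12, 11, 10, 14, 10, 9, 8, 11, 10, 9, 12, 13]) ]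

/-- The letter between the swaps of the triangle. -/
def triW : List (Fin 15) := [0, 5, 7, 8]

/-- The central involution. -/
noncomputable def tau : C0 := el tauW

/-- The edge. -/
noncomputable def alpha : C0 := el alphaW

/-- The pairs exchanged by the swap. -/
noncomputable def pairs : List (C0 × C0) := pairsW.map fun p => (el p.1, el p.2)

/-- The triangle relation. -/
noncomputable def triRel : List (List C0 × C0) := [([1, el triW, el triW, el triW], 1)]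

/-- The conjugates of the involution in the code group: itself and the two classes. -/
def Root (c : C0) : Prop := c = tau ∨ IsConj (el rootAW) c ∨ IsConj alpha c

end Cfsg.Agent.Co2Type.Code
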