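import Cfsg.Agent.Lib.Co2Type.Code.Fast
import Cfsg.Agent.Lib.Co2Type.Code.Points
import Cfsg.Agent.Lib.Co2Type.Word
import Cfsg.Agent.Lib.Co2Type.Rigid
import Cfsg.Agent.Lib.Co2Type.Chain

/-!
Packed words and the boolean tests on them used by the checks of the code group.
-/

set_option autoImplicit false

namespace Cfsg.Agent.Co2Type.Code

/-- A word from a number in base sixteen with leading digit one. -/
def decF : ℕ → ℕ → List (Fin 15)
  | 0, _ => []
  | f + 1, n => bif Nat.ble n 1 then [] else
      ⟨Nat.mod (Nat.mod n 16) 15, Nat.mod_lt _ (by norm_num)⟩ :: decF f (Nat.div n 16)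

/-- A word from a number. -/
def dec (n : ℕ) : List (Fin 15) := decF 160 n

/-- Indices from a number. -/
def decI : ℕ → ℕ → List ℕ
  | 0, _ => []
  | f + 1, n => bif Nat.ble n 1 then [] else Nat.mod n 16 :: decI f (Nat.div n 16)

/-- The source of a product of pairs. -/
def srcI (is : List ℕ) : List (Fin 15) := is.flatMap fun i => (pairsW.getD i ([], [])).1

/-- The target of a product of pairs. -/
def tgtI (is : List ℕ) : List (Fin 15) := is.flatMap fun i => (pairsW.getD i ([], [])).2

theorem pairI_mem (is : List ℕ) : (el (srcI is), el (tgtI is)) ∈ pairGroup pairs := by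
  induction is with
  | nil => exact (pairGroup pairs).one_mem
  | cons i is ih =>
    have hi : (el (pairsW.getD i ([], [])).1, el (pairsW.getD i ([], [])).2) ∈ pairGroup pairs := by
      rcases hp : pairsW[i]? with _ | p
      · rw [List.getD_eq_getElem?_getD, hp]; exact (pairGroup pairs).one_mem
      · rw [List.getD_eq_getElem?_getD, hp]
        exact Subgroup.subset_closure (List.mem_map.2 ⟨p, List.mem_of_getElem? hp, rfl⟩)
    have := mul_mem hi ih
    simpa [srcI, tgtI, el_append, Prod.mk_mul_mk] using this

/-- Equality of the elements of two words. -/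
noncomputable def eqW (v w : List (Fin 15)) : Bool := beqC (cw v) (cw w)

/-- Commutation. -/
noncomputable def commW (v w : List (Fin 15)) : Bool := beqC (cw (v ++ w)) (cw (w ++ v))

theorem of_eqW {v w : List (Fin 15)} (h : eqW v w = true) : el v = el w := el_of_cw h

theorem of_commW {v w : List (Fin 15)} (h : commW v w = true) : el v * el w = el w * el v := el_comm h

theorem eqW_iff {v w : List (Fin 15)} : eqW v w = true ↔ el v = el w := el_eq_iff.symm

/-- A number attached to a code. -/
def keyC (c : ℕ × List ℕ) : ℕ := c.1 + 512 * c.2.foldr (fun g r => g + 512 * r) 0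

/-- The number attached to an element. -/
noncomputable def keyW (w : List (Fin 15)) : ℕ := keyC (cw w)

theorem keyW_congr {v w : List (Fin 15)} (h : el v = el w) : keyW v = keyW w := by
  rw [keyW, keyW, cw_eq, cw_eq, ← code_el, ← code_el, h]

/-- Increasing numbers. -/
def increasing : List ℕ → Bool
  | a :: b :: l => Nat.blt a b && increasing (b :: l)
  | _ => true

theorem pairwise_of_increasing : ∀ {l : List ℕ}, increasing l = true → l.Pairwise (· < ·)
  | [], _ => List.Pairwise.nil
  | [_], _ => List.pairwise_singleton _ _
  | a :: b :: l, h => by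
    simp only [increasing, Bool.and_eq_true, Nat.blt_eq] at h
    have ih := pairwise_of_increasing h.2
    refine List.pairwise_cons.2 ⟨fun c hc => ?_, ih⟩
    rcases List.mem_cons.1 hc with rfl | hc
    · exact h.1
    · exact h.1.trans ((List.pairwise_cons.1 ih).1 c hc)

theorem nodup_of_keys {l : List (List (Fin 15))} (h : increasing (l.map keyW) = true) :
    (l.map el).Nodup := by
  have h' := List.pairwise_map.1 (pairwise_of_increasing h)
  exact List.pairwise_map.2 (h'.imp fun hlt e => absurd (keyW_congr e) (Nat.ne_of_lt hlt))

/-- No two of the elements agree, tested pair by pair on the numbers. -/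
def distinctB : List ℕ → Bool
  | [] => true
  | a :: l => (l.all fun b => !Nat.beq a b) && distinctB l

theorem nodup_of_distinct : ∀ {l : List (List (Fin 15))}, distinctB (l.map keyW) = true → (l.map el).Nodup
  | [], _ => List.nodup_nil
  | a :: l, h => by
    simp only [List.map_cons, distinctB, Bool.and_eq_true, List.all_eq_true, Bool.not_eq_true',
      List.mem_map, forall_exists_index, and_imp] at h
    refine List.nodup_cons.2 ⟨fun hm => ?_, nodup_of_distinct h.2⟩
    obtain ⟨b, hb, e⟩ := List.mem_map.1 hm
    have := h.1 _ b hb rfl
    rw [keyW_congr e] at this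
    simp at this

/-- A step of a chain, on words. -/
noncomputable def stepsB : List (List (Fin 15)) → List (List (Fin 15) × List (List (Fin 15))) → Bool
  | _, [] => true
  | ys, (y, gs) :: l => (gs.all fun g => ys.all fun w => commW w g) &&
      distinctB (gs.map fun g => keyW (g ++ y ++ g.reverse)) && stepsB (ys ++ [y]) l

theorem steps_of_stepsB : ∀ (l : List (List (Fin 15) × List (List (Fin 15)))) (ys : List (List (Fin 15))),
    stepsB ys l = true →
    Chain.Steps (ys.map el) (l.map fun p => (el p.1, p.2.map el))
  | [], _, _ => trivial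
  | (y, gs) :: l, ys, h => by
    simp only [stepsB, Bool.and_eq_true, List.all_eq_true] at h
    refine ⟨fun g hg w hw => ?_, ?_, ?_⟩
    · obtain ⟨g', hg', rfl⟩ := List.mem_map.1 hg
      obtain ⟨w', hw', rfl⟩ := List.mem_map.1 hw
      exact of_commW (h.1.1 g' hg' w' hw')
    · have hn := nodup_of_distinct (l := gs.map fun g => g ++ y ++ g.reverse)
        (by rw [List.map_map]; exact h.1.2)
      rw [List.map_map] at hn ⊢
      refine (List.map_congr_left fun g _ => ?_) ▸ hn
      exact (el_conj g y).symm
    · have := steps_of_stepsB l (ys ++ [y]) h.2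
      rwa [List.map_append] at this

/-- A pattern on words. -/
def patW (Q : List (List (Fin 15))) (r : List (Fin 15)) (W : List ℕ) : List (Fin 15) :=
  W.flatMap fun o => bif Nat.beq o 0 then r else Q.getD (Nat.sub o 1) []

/-- The letters of a pattern. -/
def optI (o : ℕ) : Option ℕ := bif Nat.beq o 0 then none else some (Nat.sub o 1)

theorem el_patW (Q : List (List (Fin 15))) (r : List (Fin 15)) (W : List ℕ) :
    Rigid.val (Q.map el) (el r) (W.map optI) = el (patW Q r W) := by
  induction W with
  | nil => rfl
  | cons o W ih =>
    have e : patW Q r (o :: W) = (bif Nat.beq o 0 then r else Q.getD (Nat.sub o 1) []) ++ patW Q r W := by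
      simp [patW]
    rw [e, el_append, ← ih]
    simp only [Rigid.val, List.map_cons, List.prod_cons]
    congr 1
    rcases ho : Nat.beq o 0 with _ | _
    · simp only [optI, ho, cond_false, Option.elim, List.getD_eq_getElem?_getD, List.getElem?_map]
      cases Q[Nat.sub o 1]? <;> rfl
    · simp [optI, ho]

end Cfsg.Agent.Co2Type.Code
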