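import Cfsg.Agent.Lib.Co2Type.Code.TriangleData
import Cfsg.Agent.Lib.Co2Type.Code.Decode
import Cfsg.Agent.Lib.Co2Type.Code.Card
import Cfsg.Agent.Lib.Co2Type.Reduce

/-!
The triangle relation holds in every frame: its value is carried to the faces of two tetrahedra.
-/

set_option autoImplicit false
set_option maxRecDepth 100000
set_option maxHeartbeats 2000000

namespace Cfsg.Agent.Co2Type.Code

open TriangleData

variable {G : Type*} [Group G]

namespace Tri

/-- The source word of packed indices. -/
def sI (n : ℕ) : List (Fin 15) := srcI (decI 160 n)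

/-- The target word of packed indices. -/
def tI (n : ℕ) : List (Fin 15) := tgtI (decI 160 n)

/-- A chase round the triangle. -/
noncomputable def chaseB (y : List (Fin 15)) (ns : List ℕ) : Bool :=
  eqW (triW ++ y ++ triW.reverse) (sI (ns.getD 0 0)) &&
    eqW (triW ++ tI (ns.getD 0 0) ++ triW.reverse) (sI (ns.getD 1 0)) &&
    eqW (triW ++ tI (ns.getD 1 0) ++ triW.reverse) (sI (ns.getD 2 0)) && eqW (tI (ns.getD 2 0)) y

/-- The triangle. -/
noncomputable def tri : List C0 := [1, el triW, el triW, el triW]

theorem chased_of {y : List (Fin 15)} {ns : List ℕ} (h : chaseB y ns = true) :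
    Chased pairs tri (el y) (el y) := by
  simp only [chaseB, Bool.and_eq_true] at h
  obtain ⟨⟨⟨h0, h1⟩, h2⟩, h3⟩ := h
  refine ⟨el (sI (ns.getD 2 0)), el (tI (ns.getD 2 0)),
    ⟨el (sI (ns.getD 1 0)), el (tI (ns.getD 1 0)), ⟨el (sI (ns.getD 0 0)), el (tI (ns.getD 0 0)),
      ?_, pairI_mem _, ?_⟩, pairI_mem _, ?_⟩, pairI_mem _, ?_⟩
  · exact (el_conj _ _).trans (of_eqW h0)
  · exact (el_conj _ _).trans (of_eqW h1)
  · exact (el_conj _ _).trans (of_eqW h2)
  · rw [one_mul, inv_one, mul_one, of_eqW h3]

/-- The chain bounding the centraliser of the triangle's stabiliser. -/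
def chain : List (List (Fin 15) × List (List (Fin 15))) :=
  (List.range chainY.length).map fun i => (dec (chainY.getD i 0), (chainG.getD i []).map dec)

/-- The possible values. -/
def cand (i : ℕ) : List (Fin 15) := dec (candD.getD i 0)

theorem chain_ok : (chaseB tauW tauChase && stepsB [] chain &&
    Nat.beq ((chain.map fun p => p.2.length).prod * 16) 743178240 && Nat.beq candD.length 16 &&
    distinctB ((List.range 16).map fun i => keyW (cand i)) &&
    (List.range chainY.length).all fun i => chaseB (dec (chainY.getD i 0)) (chainChase.getD i []) &&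
      (List.range 16).all fun j => commW (dec (chainY.getD i 0)) (cand j)) = true := by decide +kernel

/-- Rotation leaves the listed values. -/
theorem rot_ok : ((List.range 16).all fun i => eqW (triW ++ cand i ++ triW.reverse) (sI (candC.getD i 0)) &&
    (rotKept.any (Nat.beq i) || !eqW (tI (candC.getD i 0)) (cand i))) = true := by decide +kernel

/-- A letter of a tetrahedron. -/
def letter (q j : ℕ) : List (Fin 15) := dec ((letters.getD q []).getD j 0)

/-- The four faces. -/
def face (q : ℕ) : List (List (List (Fin 15))) :=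
  [[[], letter q 0, letter q 1, (letter q 2).reverse],
    [letter q 2, letter q 3, letter q 4, (letter q 5).reverse],
    [[], letter q 6, letter q 7, (letter q 5).reverse],
    [letter q 0, letter q 1 ++ letter q 3, letter q 4 ++ (letter q 7).reverse, (letter q 6).reverse]]

/-- The element carrying the triangle to a face. -/
def mover (q f : ℕ) : List (Fin 15) := dec ((movers.getD q []).getD f 0)

/-- A witness of carrying. -/
noncomputable def movedB (l : List (List (Fin 15))) (d : List (Fin 15)) (es : List ℕ) : Bool :=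
  eqW (l.getD 0 [] ++ tI (es.getD 0 0)) d &&
    eqW (l.getD 1 [] ++ tI (es.getD 1 0)) (sI (es.getD 0 0) ++ triW) &&
    eqW (l.getD 2 [] ++ tI (es.getD 2 0)) (sI (es.getD 1 0) ++ triW) &&
    eqW (l.getD 3 [] ++ d) (sI (es.getD 2 0) ++ triW)

/-- The identity of a tetrahedron on one value: it fails, or the value is one. -/
noncomputable def equB (q j : ℕ) : Bool :=
  eqW (mover q 3 ++ cand (rotKept.getD j 0) ++ (mover q 3).reverse) (sI ((candN.getD q []).getD j 0)) &&
    (Nat.beq (rotKept.getD j 0) 0 || !eqW
      (mover q 0 ++ cand (rotKept.getD j 0) ++ (mover q 0).reverse ++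
        (mover q 1 ++ cand (rotKept.getD j 0) ++ (mover q 1).reverse) ++
        (mover q 2 ++ cand (rotKept.getD j 0) ++ (mover q 2).reverse).reverse)
      (tI ((candN.getD q []).getD j 0)))

theorem faces_ok : ((List.range 2).all fun q => (List.range 4).all fun f =>
    movedB ((face q).getD f []) (mover q f) ((moves.getD q []).getD f [])) = true := by decide +kernel

theorem cands_ok : ((List.range rotKept.length).all fun j =>
    (List.range 2).any fun q => equB q j) = true ∧
    ((List.range rotKept.length).all fun j => (List.range 2).all fun q =>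
      eqW (mover q 3 ++ cand (rotKept.getD j 0) ++ (mover q 3).reverse) (sI ((candN.getD q []).getD j 0))) = true ∧
    eqW (cand 0) [] = true := by decide +kernel

/-- The four faces of a tetrahedron multiply to one. -/
theorem tetra (F : Frame C0 tau alpha pairs G) (hu ju hw h₁ j₁ hx h₂ j₂ : C0) :
    F.ev [1, hu, ju, hw⁻¹] * F.ev [hw, h₁, j₁, hx⁻¹] * (F.ev [1, h₂, j₂, hx⁻¹])⁻¹ =
      F.n * F.ev [hu, ju * h₁, j₁ * j₂⁻¹, h₂⁻¹] * F.n := by
  simp only [Frame.ev, map_mul, map_inv, map_one, mul_inv_rev, F.n_inv, inv_one, one_mul, inv_inv, mul_assoc,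
    inv_mul_cancel_left, mul_inv_cancel_left]
  have e : ∀ x : G, F.n * (F.n * x) = x := fun x => by rw [← mul_assoc, F.n_sq, one_mul]
  simp only [e, mul_inv_cancel, inv_mul_cancel, mul_one, inv_mul_cancel_left, mul_inv_cancel_left]

/-- A face takes the value carried. -/
theorem face_val (F : Frame C0 tau alpha pairs G) {k : C0} (hk : F.ev tri = F.φ k) {a b c e : List (Fin 15)}
    {d : List (Fin 15)} {es : List ℕ} (h : movedB [a, b, c, e] d es = true) :
    F.ev [el a, el b, el c, el e] = F.φ (el d * k * (el d)⁻¹) := by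
  simp only [movedB, Bool.and_eq_true] at h
  obtain ⟨⟨⟨h0, h1⟩, h2⟩, h3⟩ := h
  have hm : Moved pairs [el a, el b, el c, el e] tri (el d) (el d)
      [(el (sI (es.getD 0 0)), el (tI (es.getD 0 0))), (el (sI (es.getD 1 0)), el (tI (es.getD 1 0))),
        (el (sI (es.getD 2 0)), el (tI (es.getD 2 0)))] := by
    refine ⟨pairI_mem _, ?_, pairI_mem _, ?_, pairI_mem _, ?_, ?_⟩
    · rw [mul_one, ← el_append]; exact of_eqW h0
    · rw [← el_append, ← el_append]; exact of_eqW h1
    · rw [← el_append, ← el_append]; exact of_eqW h2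
    · show el e * el d = el (sI (es.getD 2 0)) * el triW
      rw [← el_append, ← el_append]; exact of_eqW h3
  have := F.ev_moved _ _ _ _ _ hm
  rw [hk, ← map_mul] at this
  rw [map_mul F.φ _ (el d)⁻¹, map_inv, ← this, mul_inv_cancel_right]

end Tri

open Tri in
/-- The triangle relation holds in every frame. -/
theorem squares_triRel (F : Frame C0 tau alpha pairs G) : F.Squares triRel := by
  intro p hp
  obtain rfl := List.mem_singleton.1 hp
  show F.ev tri = F.φ 1
  have hc := chain_ok
  simp only [Bool.and_eq_true, List.all_eq_true, Nat.beq_eq, List.mem_range] at hc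
  obtain ⟨⟨⟨⟨⟨ht, hs⟩, hp⟩, hlen⟩, hd⟩, hy⟩ := hc
  obtain ⟨k, hk⟩ := F.exists_code (l := tri) (chased_of ht)
  have : Finite C0 := Nat.finite_of_card_ne_zero (by rw [card_C0]; norm_num)
  have hmem : k ∈ (List.range 16).map fun i => el (cand i) := by
    classical
    refine Chain.mem_of_steps (steps_of_stepsB Tri.chain [] hs) ?_ ?_ ?_ fun q hq => ?_
    · have := nodup_of_distinct (l := (List.range 16).map cand) (by rw [List.map_map]; exact hd)
      rwa [List.map_map] at this
    · intro x hx q hq
      obtain ⟨j, hj, rfl⟩ := List.mem_map.1 hx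
      obtain ⟨r, hr, rfl⟩ := List.mem_map.1 hq
      obtain ⟨i, hi, rfl⟩ := List.mem_map.1 hr
      exact of_commW ((hy i (List.mem_range.1 hi)).2 j (List.mem_range.1 hj))
    · rw [card_C0, List.map_map]
      simp only [Function.comp_def, List.length_map, List.length_range]
      omega
    · obtain ⟨r, hr, rfl⟩ := List.mem_map.1 hq
      obtain ⟨i, hi, rfl⟩ := List.mem_map.1 hr
      exact (F.code_commute hk (chased_of (hy i (List.mem_range.1 hi)).1)).symm
  obtain ⟨i, hi, rfl⟩ := List.mem_map.1 hmem
  rw [List.mem_range] at hi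
  have hr := List.all_eq_true.1 rot_ok i (List.mem_range.2 hi)
  simp only [Bool.and_eq_true, Bool.or_eq_true, List.any_eq_true, Nat.beq_eq, Bool.not_eq_true'] at hr
  obtain ⟨hr1, hr2⟩ := hr
  have hrot : el (tI (candC.getD i 0)) = el (cand i) := by
    have hm := F.n_move (pairI_mem (decI 160 (candC.getD i 0)))
    rw [show el (srcI (decI 160 (candC.getD i 0))) = el triW * el (cand i) * (el triW)⁻¹ from
      ((of_eqW hr1).symm.trans (el_conj _ _).symm)] at hm
    refine F.inj (mul_right_cancel (hm.symm.trans ?_))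
    have e : F.φ (el (cand i)) = F.n * F.φ (el triW) * (F.n * F.φ (el triW) * (F.n * F.φ (el triW))) := by
      rw [← hk]
      simp only [tri, Frame.ev, map_one, one_mul, mul_assoc]
    rw [map_mul, map_mul, map_inv, e]
    simp only [mul_assoc, mul_inv_cancel, mul_one]
  obtain ⟨i', hi', rfl⟩ : ∃ x ∈ rotKept, i = x :=
    hr2.resolve_right fun h => Bool.eq_false_iff.1 h (eqW_iff.2 hrot)
  obtain ⟨j, hj, rfl⟩ := List.getElem_of_mem hi'
  have hj' : rotKept.getD j 0 = rotKept[j] := by simp [List.getD_eq_getElem?_getD, hj]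
  obtain ⟨h1, h2, h0⟩ := cands_ok
  have hq := List.all_eq_true.1 h1 j (List.mem_range.2 hj)
  simp only [List.any_eq_true, List.mem_range] at hq
  obtain ⟨q, hq, heq⟩ := hq
  simp only [equB, Bool.and_eq_true, Bool.or_eq_true, Nat.beq_eq, Bool.not_eq_true', hj'] at heq
  obtain ⟨heq1, heq2⟩ := heq
  rcases heq2 with h | h
  · rw [hk, h, of_eqW h0, el_nil]
  exfalso
  have hf := List.all_eq_true.1 faces_ok q (List.mem_range.2 hq)
  simp only [List.all_eq_true, List.mem_range] at hf
  have f0 := face_val F hk (hf 0 (by norm_num))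
  have f1 := face_val F hk (hf 1 (by norm_num))
  have f2 := face_val F hk (hf 2 (by norm_num))
  have f3 := face_val F hk (hf 3 (by norm_num))
  have ht := tetra F (el (letter q 0)) (el (letter q 1)) (el (letter q 2)) (el (letter q 3)) (el (letter q 4))
    (el (letter q 5)) (el (letter q 6)) (el (letter q 7))
  rw [el_reverse, el_reverse, el_reverse, el_reverse, ← el_append, ← el_append, ← el_nil, f0, f1, f2, f3,
    el_conj, el_conj, el_conj, el_conj] at ht
  have hm := F.n_move (pairI_mem (decI 160 ((candN.getD q []).getD j 0)))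
  rw [show F.φ (el (srcI (decI 160 ((candN.getD q []).getD j 0)))) =
    F.φ (el (mover q 3 ++ cand rotKept[j] ++ (mover q 3).reverse)) from congrArg F.φ (of_eqW heq1).symm] at hm
  rw [hm, mul_assoc (F.φ _) F.n F.n, F.n_sq, mul_one, ← map_inv, el_reverse, ← map_mul, ← map_mul, ← el_append,
    ← el_append] at ht
  exact Bool.eq_false_iff.1 h (eqW_iff.2 (F.inj ht))

end Cfsg.Agent.Co2Type.Code
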