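import Cfsg.Agent.Lib.Co2Type.Code.Q8
import Cfsg.Agent.Lib.Co2Type.Gens
import Mathlib.Algebra.Group.End
import Mathlib.GroupTheory.SemidirectProduct

/-!
The code group of the centraliser `2^(1+8).Sp₆(2)`: the extraspecial group extended by the group generated by the
seven automorphisms, with the codes by which it is computed.
-/

set_option autoImplicit false
set_option maxRecDepth 10000

namespace Cfsg.Agent.Co2Type.Code

/-- The image of a code under the endomorphism with the given images of the coordinates. -/
noncomputable def appL (l : List ℕ) : ℕ → ℕ :=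
  List.rec (motive := fun _ => ℕ → ℕ) (fun x => Nat.mul (Nat.mod x 2) 256)
    (fun g _ ih x => qmulN (Nat.mul (Nat.mod x 2) g) (ih (Nat.div x 2))) l

theorem appL_nil (x : ℕ) : appL [] x = x % 2 * 256 := rfl

theorem appL_cons (g : ℕ) (l : List ℕ) (x : ℕ) :
    appL (g :: l) x = qmulN (cond (x.testBit 0) g 0) (appL l (x / 2)) := by
  show qmulN (x % 2 * g) (appL l (x / 2)) = _
  rcases Nat.mod_two_eq_zero_or_one x with h | h <;> simp [h, Nat.testBit_zero]

/-- The coordinates. -/
def stdImg : List ℕ := [1, 2, 4, 8, 16, 32, 64, 128]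

/-- The images of the coordinates under the generating automorphisms. -/
def autImg (k : Fin 7) : List ℕ :=
  (List.finRange 8).map fun i => actTbl k i ^^^ kz ((sgnTbl k).testBit i.val)

theorem check_std : ((List.range 512).all fun x => Nat.beq (appL stdImg x) x) = true := by decide +kernel

theorem check_lt : ∀ k : Fin 7, ((List.range 512).all fun x => Nat.blt (appL (autImg k) x) 512) = true := by
  decide +kernel

theorem check_invol : ∀ k : Fin 7,
    ((List.range 512).all fun x => Nat.beq (appL (autImg k) (appL (autImg k) x)) x) = true := by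
  decide +kernel

theorem check_hom : ∀ k : Fin 7, ((List.range 512).all fun x => (256 :: stdImg).all fun e =>
    Nat.beq (appL (autImg k) (qmulN x e)) (qmulN (appL (autImg k) x) (appL (autImg k) e))) = true := by
  decide +kernel

/-- Peeling off the highest bit. -/
theorem check_top : ((List.range 512).all fun x => Nat.beq x 0 ||
    ((256 :: stdImg).any fun e => Nat.blt (x - e) x && Nat.ble e x && Nat.beq (qmulN (x - e) e) x)) = true := by
  decide +kernel

theorem appL_std (a : Q8) : appL stdImg a.n = a.n :=
  Nat.eq_of_beq_eq_true (List.all_eq_true.1 check_std a.n (List.mem_range.2 a.lt))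

theorem gen_lt : ∀ e ∈ 256 :: stdImg, e < 512 := by decide

/-- Induction over the group by right multiplication with coordinates. -/
theorem q8_induction {P : Q8 → Prop} (one : P 1)
    (step : ∀ (a : Q8) (e : ℕ) (he : e ∈ 256 :: stdImg), P a → P (a * ⟨e, gen_lt e he⟩)) : ∀ a, P a := by
  suffices H : ∀ m, ∀ a : Q8, a.n = m → P a from fun a => H _ a rfl
  intro m
  induction m using Nat.strong_induction_on with
  | _ m ih =>
    intro a ha
    by_cases h0 : a.n = 0
    · rwa [show a = 1 from Q8.ext h0]
    have h := List.all_eq_true.1 check_top a.n (List.mem_range.2 a.lt)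
    simp only [Bool.or_eq_true, Nat.beq_eq, List.any_eq_true, Bool.and_eq_true, Nat.blt_eq] at h
    obtain ⟨e, he, ⟨h1, -⟩, h3⟩ := h.resolve_left h0
    let a' : Q8 := ⟨a.n - e, h1.trans a.lt⟩
    have e1 : a = a' * ⟨e, gen_lt e he⟩ := Q8.ext h3.symm
    rw [e1]
    exact step a' e he (ih _ (ha ▸ h1) a' rfl)

theorem appL_zero : ∀ l : List ℕ, appL l 0 = 0
  | [] => rfl
  | g :: l => by simp [appL_cons, appL_zero l, qmulN_eq, beta, kz]

/-- The function of a generating automorphism. -/
noncomputable def autFun (k : Fin 7) (a : Q8) : Q8 :=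
  ⟨appL (autImg k) a.n, by simpa using List.all_eq_true.1 (check_lt k) a.n (List.mem_range.2 a.lt)⟩

theorem autFun_one (k : Fin 7) : autFun k 1 = 1 := Q8.ext (by show appL (autImg k) 0 = 0; exact appL_zero _)

theorem autFun_mul (k : Fin 7) : ∀ b a : Q8, autFun k (a * b) = autFun k a * autFun k b := by
  refine q8_induction (fun a => by rw [autFun_one, mul_one, mul_one]) fun b e he ih a => ?_
  have hs : ∀ c : Q8, autFun k (c * ⟨e, gen_lt e he⟩) = autFun k c * autFun k ⟨e, gen_lt e he⟩ := fun c =>
    Q8.ext (Nat.eq_of_beq_eq_true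
      (List.all_eq_true.1 (List.all_eq_true.1 (check_hom k) c.n (List.mem_range.2 c.lt)) e he))
  rw [← mul_assoc, hs, ih, hs, mul_assoc]

theorem autFun_autFun (k : Fin 7) (a : Q8) : autFun k (autFun k a) = a :=
  Q8.ext (Nat.eq_of_beq_eq_true (List.all_eq_true.1 (check_invol k) a.n (List.mem_range.2 a.lt)))

/-- The generating automorphisms. -/
noncomputable def autA (k : Fin 7) : MulAut Q8 where
  toFun := autFun k
  invFun := autFun k
  left_inv := autFun_autFun k
  right_inv := autFun_autFun k
  map_mul' a b := autFun_mul k b a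

/-- The group of automorphisms. -/
def W : Subgroup (MulAut Q8) := Subgroup.closure (Set.range autA)

/-- The code group. -/
abbrev C0 : Type := Q8 ⋊[W.subtype] ↥W

/-- The central involution. -/
def zt : Q8 := ⟨256, by norm_num⟩

theorem zt_sq_of : ∀ a : Q8, a * a = 1 ∨ a * a = zt := fun a => by
  rcases hb : beta a.n a.n with _ | _
  · exact Or.inl (Q8.ext (by simp [Q8.mul_n, Q8.one_n, qmulN_eq, hb, kz]))
  · exact Or.inr (Q8.ext (by simp [Q8.mul_n, zt, qmulN_eq, hb, kz]))

/-- The images of the coordinates. -/
noncomputable def imgs (φ : MulAut Q8) : List ℕ :=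
  stdImg.attach.map fun e => (φ ⟨e.1, gen_lt e.1 (List.mem_cons_of_mem _ e.2)⟩).n

theorem map_zt (φ : MulAut Q8) : φ zt = zt := by
  have h : zt = (⟨129, by norm_num⟩ : Q8) * ⟨129, by norm_num⟩ :=
    Q8.ext ((by decide : (256 : ℕ) = qmulN 129 129))
  have h1 : φ zt ≠ 1 := fun e => by
    have := congrArg Q8.n (φ.injective (e.trans (map_one φ).symm))
    simp [zt, Q8.one_n] at this
  rw [h, map_mul] at h1 ⊢
  rcases zt_sq_of (φ ⟨129, by norm_num⟩) with e | e
  · exact absurd e h1
  · rw [e, ← h]

theorem appL_nat (φ : MulAut Q8) : ∀ (l : List Q8) (x : ℕ), (x < 2 ^ (l.length + 1)) →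
    appL (l.map fun a => (φ a).n) x = (φ ⟨appL (l.map Q8.n) x % 512, Nat.mod_lt _ (by norm_num)⟩).n ∧
      appL (l.map Q8.n) x < 512
  | [], x, hx => by
    have hx2 : x < 2 := by simpa using hx
    interval_cases x
    · exact ⟨(congrArg Q8.n (map_one φ)).symm, by norm_num [appL_nil]⟩
    · exact ⟨(congrArg Q8.n (map_zt φ)).symm, by norm_num [appL_nil]⟩
  | a :: l, x, hx => by
    obtain ⟨h1, h2⟩ := appL_nat φ l (x / 2) (by
      rw [List.length_cons, pow_succ] at hx
      omega)
    simp only [List.map_cons, appL_cons]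
    have h3 : qmulN (cond (x.testBit 0) a.n 0) (appL (l.map Q8.n) (x / 2)) < 512 :=
      qmulN_lt (by cases x.testBit 0 <;> simp [a.lt]) h2
    refine ⟨?_, h3⟩
    let c : Q8 := cond (x.testBit 0) a 1
    let d : Q8 := ⟨appL (l.map Q8.n) (x / 2) % 512, Nat.mod_lt _ (by norm_num)⟩
    have hcd : (⟨qmulN (cond (x.testBit 0) a.n 0) (appL (l.map Q8.n) (x / 2)) % 512, Nat.mod_lt _ (by norm_num)⟩ :
        Q8) = c * d := Q8.ext (by
      show _ % 512 = qmulN c.n (appL (l.map Q8.n) (x / 2) % 512)
      rw [Nat.mod_eq_of_lt h2, Nat.mod_eq_of_lt h3]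
      simp only [c]
      cases x.testBit 0 <;> rfl)
    rw [hcd, map_mul, Q8.mul_n, h1]
    simp only [c]
    cases x.testBit 0
    · rw [cond_false, cond_false, map_one]; rfl
    · rfl

theorem apply_eq (φ : MulAut Q8) (a : Q8) : (φ a).n = appL (imgs φ) a.n := by
  let l : List Q8 := stdImg.attach.map fun e => ⟨e.1, gen_lt e.1 (List.mem_cons_of_mem _ e.2)⟩
  have hl : l.map Q8.n = stdImg := rfl
  have hi : imgs φ = l.map fun b => (φ b).n := rfl
  obtain ⟨h, -⟩ := appL_nat φ l a.n (by simpa [l, stdImg] using a.lt)
  rw [hi, h, hl]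
  refine congrArg (fun b => (φ b).n) (Q8.ext ?_)
  show a.n = appL stdImg a.n % 512
  rw [appL_std, Nat.mod_eq_of_lt a.lt]

theorem imgs_injective : Function.Injective imgs := fun φ ψ h => MulEquiv.ext fun a => Q8.ext (by
  rw [apply_eq, apply_eq, h])

theorem imgs_mul (φ ψ : MulAut Q8) : imgs (φ * ψ) = (imgs ψ).map (appL (imgs φ)) := by
  simp only [imgs, List.map_map]
  refine List.map_congr_left fun e _ => ?_
  exact apply_eq φ _

/-- The code of an element: the part in the extraspecial group and the images of the coordinates. -/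
noncomputable def code (x : C0) : ℕ × List ℕ := (x.left.n, imgs (x.right : MulAut Q8))

/-- The product of codes. -/
noncomputable def mulC (a b : ℕ × List ℕ) : ℕ × List ℕ := (qmulN a.1 (appL a.2 b.1), b.2.map (appL a.2))

/-- The code of the identity. -/
def oneC : ℕ × List ℕ := (0, stdImg)

theorem code_injective : Function.Injective code := fun x y h =>
  SemidirectProduct.ext (Q8.ext (congrArg Prod.fst h))
    (Subtype.ext (imgs_injective (congrArg Prod.snd h)))

theorem code_mul (x y : C0) : code (x * y) = mulC (code x) (code y) := by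
  refine Prod.ext ?_ ?_
  · show (x * y).left.n = qmulN x.left.n _
    rw [SemidirectProduct.mul_left, Q8.mul_n]
    exact congrArg _ (apply_eq _ _)
  · exact imgs_mul _ _

theorem code_one : code 1 = oneC := rfl

/-- The generators: eight coordinates and seven automorphisms. -/
noncomputable def genC (z : Fin 15) : C0 :=
  if h : z.val < 8 then SemidirectProduct.inl ⟨2 ^ z.val, (Nat.pow_lt_pow_right (by norm_num) h).trans_le (by norm_num)⟩
  else SemidirectProduct.inr ⟨autA ⟨z.val - 8, by omega⟩, Subgroup.subset_closure ⟨_, rfl⟩⟩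

/-- The codes of the generators. -/
def genCode (z : Fin 15) : ℕ × List ℕ :=
  if h : z.val < 8 then (2 ^ z.val, stdImg) else (0, autImg ⟨z.val - 8, by omega⟩)

theorem imgs_autA : ∀ k : Fin 7, imgs (autA k) = autImg k := by decide +kernel

theorem code_gen (z : Fin 15) : code (genC z) = genCode z := by
  unfold genC genCode
  split
  · rfl
  · exact Prod.ext rfl (imgs_autA _)

/-- The element of a word. -/
noncomputable def el (w : List (Fin 15)) : C0 := (w.map genC).prod

/-- The code of a word. -/
noncomputable def codeW : List (Fin 15) → ℕ × List ℕ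
  | [] => oneC
  | z :: w => mulC (genCode z) (codeW w)

theorem code_el : ∀ w, code (el w) = codeW w
  | [] => code_one
  | z :: w => by rw [el, List.map_cons, List.prod_cons, code_mul, code_gen, codeW, ← code_el w]; rfl

theorem el_eq {v w : List (Fin 15)} (h : codeW v = codeW w) : el v = el w :=
  code_injective (by rw [code_el, code_el, h])

theorem el_ne {v w : List (Fin 15)} (h : codeW v ≠ codeW w) : el v ≠ el w := fun e =>
  h (by rw [← code_el, ← code_el, e])

theorem el_append (v w : List (Fin 15)) : el (v ++ w) = el v * el w := by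
  simp [el]

end Cfsg.Agent.Co2Type.Code
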