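import Cfsg.Agent.Lib.Co2Type.Code.Points

/-!
The places in the table of roots of the roots commuting with the edge (computed).
-/

set_option autoImplicit false
set_option maxRecDepth 100000

namespace Cfsg.Agent.Co2Type.Code.ClassData

/-- The places. -/
def rootIdx : List ℕ :=
  [0, 69, 202, 310, 44, 494, 319, 19, 307, 24, 248, 16, 325, 39, 465, 471, 281, 504, 192, 163, 12, 216, 35, 300, 247, 252, 377, 331, 160, 135, 56, 143, 244, 501, 65, 151, 294, 201, 583, 585, 413, 576, 62, 296, 340, 440, 474, 710, 184, 436, 57, 665, 346, 592, 136, 888, 279, 905, 242, 287, 193, 467, 530, 350, 495, 327, 565, 884, 273, 577, 549, 707, 901, 229, 681, 533, 942, 446, 889, 134, 562, 950, 390, 542, 948, 698, 891, 185, 704, 805, 194, 661, 892, 274, 656, 986, 659, 947, 560, 930, 441, 878, 696, 949, 178, 196, 187, 965, 472, 912, 459, 457, 944, 414, 333, 496, 872, 497, 578, 574, 478, 978, 490, 984, 498, 982, 606, 981, 940, 964, 969, 1008, 1004, 995, 1003, 998, 1007, 992, 559,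 604, 983, 737, 579, 816, 655, 1009, 1010, 1012, 1011, 2096, 1871, 1018, 1014, 2000, 2066, 1016, 1874, 1996, 1027, 2136, 2147, 2102, 2133, 2209, 2006, 2139, 1892, 2095, 1592, 2248, 2149, 1861, 1883, 1999, 1817, 1738, 2100, 1873, 1572, 1659, 2004, 2135, 1864, 2007, 1821, 1969, 2144, 1773, 1893, 1695, 2041, 2103, 1580, 1970, 2150, 1875, 1956, 1931, 1544, 2060, 2033, 2116, 1399, 2125, 2018, 1369, 2189, 2171, 1595, 2224, 2093, 1977, 1831, 2067, 2207, 1769, 1646, 2200, 2214, 2019, 1598, 2229, 2235, 2058, 1894, 2222, 1685, 2202, 1850, 2223, 1531, 2063, 1725, 2193, 1717, 2215, 1640, 2263, 1799, 2227, 1941, 2108, 1992, 1890, 1090, 1975, 1903, 1813, 2101, 1119, 1812, 1967, 2020, 2005, 1071, 1764, 2157, 2086, 2148, 1129, 2085, 1768, 1589, 1976, 1826, 2024, 1700, 2057, 1885, 1649, 2206, 1496, 1338, 1762, 1730, 2226, 1668, 1272, 1632, 1855, 2090, 1742, 1231, 1721, 1953, 2233, 1765, 1377, 1924, 1421, 1343, 1482, 1278, 1318, 1238, 1510, 1392, 1170, 1609, 1256, 1417,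 1808, 1209, 1839, 1294, 1478, 1991, 1144, 1710, 1194, 1308, 2053, 1237, 1908, 1312, 1501, 2082]

end Cfsg.Agent.Co2Type.Code.ClassData
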