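import Cfsg.Agent.Lib.Co2Type.Code.ClassData
import Cfsg.Agent.Lib.Co2Type.Code.Edge.Check
import Cfsg.Agent.Lib.Co2Type.Code.Card
import Cfsg.Agent.Lib.Co2Type.Code.Roots.Ord

/-!
The orders of the centralisers of the two sorts of roots, and the roots commuting with the edge.
-/

set_option autoImplicit false
set_option maxRecDepth 100000
set_option maxHeartbeats 2000000

namespace Cfsg.Agent.Co2Type.Code.ClassData

open EdgeData

/-- The code group is finite. -/
theorem finite_C0 : Finite C0 := Nat.finite_of_card_ne_zero (by rw [card_C0]; norm_num)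

/-- The centraliser of the lift is large. -/
theorem card_cent_lift : 737280 ≤ Nat.card (Chain.cent [el rootAW]) := by
  haveI := finite_C0
  have h := aChain_ok
  simp only [Bool.and_eq_true, List.all_eq_true, Nat.beq_eq] at h
  obtain ⟨⟨⟨hs, hp⟩, hc⟩, hta⟩ := h
  have ht : tau ≠ 1 := by
    have : eqW tauW [] = false := by decide +kernel
    exact fun e => by simp [eqW_iff.2 (e.trans el_nil.symm)] at this
  have := Chain.le_card (Chain.cent [el rootAW]) (steps_of_stepsB aChain [] hs) (fun p hp' g hg => by
      obtain ⟨q, hq, rfl⟩ := List.mem_map.1 hp'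
      obtain ⟨w, hw, rfl⟩ := List.mem_map.1 hg
      refine Chain.mem_cent.2 fun y hy => ?_
      rw [List.mem_singleton.1 hy]
      exact (of_commW ((hc q hq).2 w hw)).symm) (m := 2) (by
      rw [List.map_map]
      have hm : ∀ z ∈ [1, tau], z ∈ Chain.cent (aChain.map (Prod.fst ∘ fun p => (el p.1, p.2.map el))) ⊓
          Chain.cent [el rootAW] := fun z hz => by
        refine ⟨Chain.mem_cent.2 fun y hy => ?_, Chain.mem_cent.2 fun y hy => ?_⟩
        · obtain ⟨q, hq, rfl⟩ := List.mem_map.1 hy
          simp only [List.mem_cons, List.not_mem_nil, or_false] at hz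
          rcases hz with rfl | rfl
          · simp
          · exact of_commW (hc q hq).1
        · rw [List.mem_singleton.1 hy]
          simp only [List.mem_cons, List.not_mem_nil, or_false] at hz
          rcases hz with rfl | rfl
          · simp
          · exact (of_commW hta).symm
      have h2 : Function.Injective fun i : Fin 2 => (⟨([1, tau] : List C0).get i, hm _ (List.get_mem ([1, tau] : List C0) i)⟩ :
          ↥(Chain.cent (aChain.map (Prod.fst ∘ fun p => (el p.1, p.2.map el))) ⊓ Chain.cent [el rootAW])) :=
        fun i j e => List.nodup_iff_injective_get.1 (by simp [Ne.symm ht] : ([1, tau] : List C0).Nodup)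
          (congrArg Subtype.val e)
      simpa using Nat.card_le_card_of_injective _ h2)
  rw [List.map_map] at this
  simp only [Function.comp_def, List.length_map] at this
  omega

/-- The centraliser of the edge is generated by the sources of the pairs and has order `589824`. -/
theorem dChain_le : 589824 ≤ Nat.card ((pairGroup pairs).map (MonoidHom.fst C0 C0)) := by
  haveI := finite_C0
  have h := dChain_ok
  simp only [Bool.and_eq_true, List.all_eq_true, Nat.beq_eq] at h
  obtain ⟨⟨hs, hp⟩, hc⟩ := h
  have htm : tau ∈ (pairGroup pairs).map (MonoidHom.fst C0 C0) := by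
    have hb := basics
    simp only [Bool.and_eq_true] at hb
    exact ⟨_, pairI_mem tauIdx, of_eqW hb.1.1.1.1.1.1.1.2⟩
  have ht : tau ≠ 1 := by
    have : eqW tauW [] = false := by decide +kernel
    exact fun e => by simp [eqW_iff.2 (e.trans el_nil.symm)] at this
  have := Chain.le_card ((pairGroup pairs).map (MonoidHom.fst C0 C0)) (steps_of_stepsB dChain [] hs)
    (fun p hp' g hg => by
      obtain ⟨q, hq, rfl⟩ := List.mem_map.1 hp'
      obtain ⟨w, hw, rfl⟩ := List.mem_map.1 hg
      obtain ⟨i, -, rfl⟩ := List.mem_map.1 hq
      obtain ⟨n, -, rfl⟩ := List.mem_map.1 hw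
      exact ⟨_, pairI_mem (decI 160 n), rfl⟩) (m := 2) (by
      rw [List.map_map]
      have hm : ∀ z ∈ [1, tau], z ∈ Chain.cent (dChain.map (Prod.fst ∘ fun p => (el p.1, p.2.map el))) ⊓
          (pairGroup pairs).map (MonoidHom.fst C0 C0) := fun z hz => by
        simp only [List.mem_cons, List.not_mem_nil, or_false] at hz
        rcases hz with rfl | rfl
        · exact one_mem _
        · refine ⟨Chain.mem_cent.2 fun y hy => ?_, htm⟩
          obtain ⟨q, hq, rfl⟩ := List.mem_map.1 hy
          exact of_commW (hc q hq)
      have h2 : Function.Injective fun i : Fin 2 => (⟨([1, tau] : List C0).get i, hm _ (List.get_mem ([1, tau] : List C0) i)⟩ :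
          ↥(Chain.cent (dChain.map (Prod.fst ∘ fun p => (el p.1, p.2.map el))) ⊓
            (pairGroup pairs).map (MonoidHom.fst C0 C0))) :=
        fun i j e => List.nodup_iff_injective_get.1 (by simp [Ne.symm ht] : ([1, tau] : List C0).Nodup)
          (congrArg Subtype.val e)
      simpa using Nat.card_le_card_of_injective _ h2)
  rw [List.map_map] at this
  simp only [Function.comp_def, List.length_map] at this
  omega

theorem pairs_fst_le : (pairGroup pairs).map (MonoidHom.fst C0 C0) ≤ Chain.cent [alpha] := by
  have hb := basics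
  simp only [Bool.and_eq_true, List.all_eq_true] at hb
  rintro _ ⟨p, hp, rfl⟩
  refine Chain.mem_cent.2 fun y hy => ?_
  rw [List.mem_singleton.1 hy]
  induction hp using Subgroup.closure_induction with
  | mem p hp =>
    obtain ⟨q, hq, rfl⟩ := List.mem_map.1 hp
    exact (of_commW (hb.1.1.2 q hq)).symm
  | one => simp
  | mul p q _ _ h₁ h₂ =>
    show alpha * (p.1 * q.1) = p.1 * q.1 * alpha
    rw [← mul_assoc, show alpha * p.1 = p.1 * alpha from h₁, mul_assoc, show alpha * q.1 = q.1 * alpha from h₂,
      mul_assoc]
  | inv p _ h => exact ((Commute.inv_right (show Commute alpha p.1 from h)))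

/-- The centraliser of the edge. -/
theorem pairs_fst_eq : (pairGroup pairs).map (MonoidHom.fst C0 C0) = Chain.cent [alpha] ∧
    Nat.card (Chain.cent [alpha]) = 589824 := by
  haveI := finite_C0
  have hex : ∀ i : Fin 1260, ∃ g : C0, code (g * alpha * g⁻¹) = Roots.rootC (1009 + i.val) := fun i => by
    obtain ⟨c, hc, -, -, hB⟩ := Roots.exists_code (1009 + i.val) (by omega)
    obtain ⟨g, rfl⟩ := isConj_iff.1 (hB (by omega))
    exact ⟨g, hc⟩
  choose g hg using hex
  have hnd : ((List.ofFn g).map fun x => x * alpha * x⁻¹).Nodup := by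
    rw [List.map_ofFn, List.nodup_ofFn]
    intro i j e
    have := Roots.rootC_inj (i := 1009 + i.val) (i' := 1009 + j.val) (by omega) (by omega)
      (by rw [← hg i, ← hg j]; exact congrArg code e)
    exact Fin.ext (by omega)
  have hup := Chain.card_step ⊤ (ys := ([] : List C0)) (y := alpha) (List.ofFn g)
    (fun g _ => Chain.mem_cent.2 fun w hw => nomatch hw) (fun _ _ => Subgroup.mem_top _) hnd
  simp only [inf_top_eq, List.nil_append, List.length_ofFn] at hup
  have hup' := hup.trans (Finite.card_subtype_le _)
  rw [card_C0] at hup'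
  have hlo := dChain_le
  have hle := Subgroup.card_le_of_le pairs_fst_le
  refine ⟨Subgroup.eq_of_le_of_card_ge pairs_fst_le (by omega), by omega⟩

/-- A place is that of a root commuting with the edge, or the root there moves the edge. -/
noncomputable def placeB (i : ℕ) : Bool :=
  rootIdx.any (Nat.beq i) ||
    !Roots.beqC (mulC (Roots.rootC i) (cw alphaW)) (mulC (cw alphaW) (Roots.rootC i))

theorem places_ok : ((List.range 2269).all placeB) = true := by decide +kernel

theorem idx_ok : (Nat.beq rootIdx.length 317 && (List.range 317).all fun j =>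
    Nat.blt (rootIdx.getD j 0) 2269 && Roots.beqC (cw (rootW j)) (Roots.rootC (rootIdx.getD j 0))) = true := by
  decide +kernel

theorem beqC_refl : ∀ a : ℕ × List ℕ, Roots.beqC a a = true := fun ⟨v, l⟩ => by
  have h : ∀ l : List ℕ, Roots.beqL l l = true := fun l => by
    induction l with
    | nil => rfl
    | cons a l ih =>
      show (Nat.beq a a && Roots.beqL l l) = true
      rw [ih, Bool.and_true]
      exact Nat.beq_refl a
  show (Nat.beq v v && Roots.beqL l l) = true
  rw [h, Bool.and_true]
  exact Nat.beq_refl v

/-- The roots commuting with the edge. -/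
theorem exists_rootW {c : C0} (hc : Root c) (hcomm : c * alpha = alpha * c) :
    ∃ i < 317, c = el (rootW i) := by
  obtain ⟨i, hi, e⟩ := Roots.root_iff.1 hc
  have hp := List.all_eq_true.1 places_ok i (List.mem_range.2 hi)
  simp only [placeB, Bool.or_eq_true, List.any_eq_true, Bool.not_eq_true'] at hp
  rcases hp with ⟨j, hj, hij⟩ | hp
  · obtain ⟨k, hk, rfl⟩ := List.getElem_of_mem hj
    have h := idx_ok
    simp only [Bool.and_eq_true, List.all_eq_true, List.mem_range, Nat.beq_eq] at h
    have hk' : k < 317 := by omega
    refine ⟨k, hk', code_injective ?_⟩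
    have h2 := Roots.beqC_eq (h.2 k hk').2
    rw [List.getD_eq_getElem?_getD, List.getElem?_eq_getElem hk, Option.getD_some] at h2
    rw [code_el, ← cw_eq, h2, e, Nat.eq_of_beq_eq_true hij]
  · exfalso
    have h : mulC (Roots.rootC i) (cw alphaW) = mulC (cw alphaW) (Roots.rootC i) := by
      rw [← e, cw_eq, ← code_el, ← code_mul, ← code_mul]
      exact congrArg code hcomm
    rw [h, beqC_refl] at hp
    cases hp

theorem root_rootW {i : ℕ} (hi : i < 317) : Root (el (rootW i)) := by
  have h := idx_ok
  simp only [Bool.and_eq_true, List.all_eq_true, List.mem_range, Nat.beq_eq, Nat.blt_eq] at h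
  exact Roots.root_iff.2 ⟨_, (h.2 i hi).1, by rw [code_el, ← cw_eq]; exact Roots.beqC_eq (h.2 i hi).2⟩

theorem pre_comm : ((pre0 ++ lvs.map fun d => lvPair d.1).all fun p => commW p.2 alphaW) = true := by
  decide +kernel

theorem pre_comm₁ : ((preOf 7).all fun p => commW p.1 alphaW) = true := by decide +kernel

end Cfsg.Agent.Co2Type.Code.ClassData
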