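import Cfsg.Agent.Lib.Co2Type.Code.Lower
import Cfsg.Agent.Lib.Co2Type.Code.Upper

/-!
Coordinates of the centraliser give an embedding of the code group onto it.
-/

set_option autoImplicit false
set_option linter.style.haveILetI false
set_option maxRecDepth 10000

namespace Cfsg.Agent.Co2Type

open Code

variable {G : Type*} [Group G] {t : G} {q : Fin 8 → G} {a : Fin 7 → G}

/-- A coordinate or a power of `t`, by a bit. -/
def bpow (x : G) (b : Bool) : G := if b then x else 1

/-- The ordered product of the first `k` coordinates. -/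
def pref (q : Fin 8 → G) (v : ℕ) : ∀ k : ℕ, k ≤ 8 → G
  | 0, _ => 1
  | k + 1, h => pref q v k (by omega) * bpow (q ⟨k, by omega⟩) (v.testBit k)

theorem bpow_xor {x : G} (hx : x * x = 1) (b c : Bool) : bpow x b * bpow x c = bpow x (b ^^ c) := by
  cases b <;> cases c <;> simp [bpow, hx]

/-- Changes of bits at or above `k` do not change the product of the first `k`. -/
theorem pref_congr {q : Fin 8 → G} {v w : ℕ} : ∀ (k : ℕ) (h : k ≤ 8), (∀ i < k, v.testBit i = w.testBit i) →
    pref q v k h = pref q w k h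
  | 0, _, _ => rfl
  | k + 1, h, e => by
    rw [pref, pref, pref_congr k (by omega) (fun i hi => e i (by omega)), e k (by omega)]

/-- The element of a code of the extraspecial group. -/
def qv (t : G) (q : Fin 8 → G) (x : ℕ) : G := pref q x 8 le_rfl * bpow t (x.testBit 8)

theorem pref_xor256 (x : ℕ) (b : Bool) : pref q (x ^^^ kz b) 8 le_rfl = pref q x 8 le_rfl :=
  pref_congr 8 le_rfl fun i hi => by rw [Nat.testBit_xor, kz_testBit b i hi, Bool.xor_false]

section QPart

variable (hC : QGens t q)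
include hC

theorem QGens.bpow_t_comm (b : Bool) (i : Fin 8) : bpow t b * q i = q i * bpow t b := by
  cases b
  · simp [bpow]
  · simpa [bpow] using hC.t_comm_q i

theorem QGens.commute_pref (b : Bool) (v : ℕ) : ∀ (m : ℕ) (hm : m ≤ 8), Commute (bpow t b) (pref q v m hm)
  | 0, _ => Commute.one_right _
  | m + 1, hm => Commute.mul_right (QGens.commute_pref b v m (by omega)) (by
      cases v.testBit m
      · exact Commute.one_right _
      · exact hC.bpow_t_comm b _)

/-- The product times a coordinate. -/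
theorem QGens.pref_mul (v : ℕ) (j : Fin 8) : ∀ (k : ℕ) (h : k ≤ 8), j.val < k →
    pref q v k h * q j = bpow t (decide (j.val < 7 - j.val ∧ 7 - j.val < k) && v.testBit (7 - j.val)) *
      pref q (v ^^^ 2 ^ j.val) k h
  | 0, _, hj => absurd hj (by omega)
  | k + 1, h, hj => by
    have hbit : ∀ i, (v ^^^ 2 ^ j.val).testBit i = (v.testBit i ^^ decide (j.val = i)) := fun i => by
      rw [Nat.testBit_xor, Nat.testBit_two_pow]
    rw [pref, pref]
    rcases Nat.lt_succ_iff_lt_or_eq.1 hj with hlt | heq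
    · have IH := QGens.pref_mul v j k (by omega) hlt
      have hk : (v ^^^ 2 ^ j.val).testBit k = v.testBit k := by
        rw [hbit, decide_eq_false (by omega), Bool.xor_false]
      rw [hk]
      by_cases hp : k + j.val = 7
      · have hk7 : k = 7 - j.val := by omega
        have e1 : bpow (q ⟨k, by omega⟩) (v.testBit k) * q j =
            q j * bpow (q ⟨k, by omega⟩) (v.testBit k) * bpow t (v.testBit k) := by
          cases v.testBit k
          · simp [bpow]
          · simp only [bpow, if_true]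
            rw [hC.q_pair ⟨k, by omega⟩ j hp, ← mul_assoc t (q j), hC.t_comm_q, mul_assoc (q j) t,
              hC.t_comm_q, ← mul_assoc]
        have e0 : decide (j.val < 7 - j.val ∧ 7 - j.val < k) = false := decide_eq_false (by omega)
        have e2 : decide (j.val < 7 - j.val ∧ 7 - j.val < k + 1) = true := decide_eq_true (by omega)
        rw [e0, Bool.false_and, show bpow t false = (1 : G) from rfl, one_mul] at IH
        rw [e2, Bool.true_and, ← hk7, mul_assoc, e1, ← mul_assoc, ← mul_assoc, IH]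
        have hT : Commute (bpow t (v.testBit k))
            (pref q (v ^^^ 2 ^ j.val) k (by omega) * bpow (q ⟨k, by omega⟩) (v.testBit k)) :=
          (hC.commute_pref _ _ _ _).mul_right (by
            cases v.testBit k
            · exact Commute.one_right _
            · exact hC.bpow_t_comm _ _)
        exact hT.eq.symm
      · have e1 : bpow (q ⟨k, by omega⟩) (v.testBit k) * q j = q j * bpow (q ⟨k, by omega⟩) (v.testBit k) := by
          cases v.testBit k
          · simp [bpow]
          · exact hC.q_comm ⟨k, by omega⟩ j hp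
        have e2 : decide (j.val < 7 - j.val ∧ 7 - j.val < k + 1) = decide (j.val < 7 - j.val ∧ 7 - j.val < k) :=
          decide_eq_decide.2 (by omega)
        rw [e2, mul_assoc, e1, ← mul_assoc, IH, mul_assoc]
    · subst heq
      have e2 : decide (j.val < 7 - j.val ∧ 7 - j.val < j.val + 1) = false := decide_eq_false (by omega)
      rw [e2, Bool.false_and, show bpow t false = (1 : G) from rfl, one_mul, hbit, decide_eq_true rfl,
        pref_congr (w := v ^^^ 2 ^ j.val) j.val (by omega)
          (fun i hi => by rw [hbit, decide_eq_false (by omega), Bool.xor_false]), mul_assoc]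
      congr 1
      show bpow (q j) (v.testBit j.val) * bpow (q j) true = _
      rw [bpow_xor (hC.q_sq j)]

theorem QGens.qv_mul_single (x : ℕ) (j : Fin 8) :
    qv t q x * q j = qv t q (qmulN x (2 ^ j.val)) := by
  have hp := hC.pref_mul x j 8 le_rfl (by omega)
  rw [qv, qv, mul_assoc, hC.bpow_t_comm, ← mul_assoc, hp, qmulN_eq, pref_xor256]
  have hbeta : beta x (2 ^ j.val) = (decide (j.val < 7 - j.val ∧ 7 - j.val < 8) && x.testBit (7 - j.val)) := by
    simp only [beta, Nat.testBit_two_pow]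
    fin_cases j <;> simp
  have h8 : (x ^^^ 2 ^ j.val ^^^ kz (beta x (2 ^ j.val))).testBit 8 = (x.testBit 8 ^^ beta x (2 ^ j.val)) := by
    rw [Nat.testBit_xor, Nat.testBit_xor, Nat.testBit_two_pow, decide_eq_false (by omega : ¬ j.val = 8),
      Bool.xor_false]
    cases beta x (2 ^ j.val) <;> rfl
  rw [h8, hbeta]
  set c := (decide (j.val < 7 - j.val ∧ 7 - j.val < 8) && x.testBit (7 - j.val))
  have hcomm : Commute (bpow t c) (pref q (x ^^^ 2 ^ j.val) 8 le_rfl) := hC.commute_pref _ _ _ _
  rw [hcomm.eq, mul_assoc, bpow_xor hC.t_sq, Bool.xor_comm]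

theorem QGens.qv_mul_256 (x : ℕ) : qv t q x * t = qv t q (qmulN x 256) := by
  have hb : beta x 256 = false := by
    have h : ∀ i < 4, Nat.testBit 256 i = false := by decide
    simp [beta, h 0, h 1, h 2, h 3]
  rw [qv, qv, qmulN_eq, hb, show kz false = 0 from rfl, Nat.xor_zero,
    show (256 : ℕ) = kz true from rfl, pref_xor256, mul_assoc,
    show bpow t (x.testBit 8) * t = bpow t (x.testBit 8) * bpow t true from rfl, bpow_xor hC.t_sq,
    Nat.testBit_xor]
  rfl

omit hC in
theorem qv_zero' : qv t q 0 = 1 := by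
  simp [qv, pref, bpow]

/-- The embedding of the extraspecial group. -/
def QGens.qhom : Q8 →* G :=
  MonoidHom.mk' (fun a => qv t q a.n) (by
    intro a b
    revert a
    refine q8_induction (P := fun b => ∀ a : Q8, qv t q (a * b).n = qv t q a.n * qv t q b.n) ?_ ?_ b
    · intro a; rw [mul_one, Q8.one_n, qv_zero', mul_one]
    · intro b e he ih a
      obtain ⟨x, hx, hs⟩ : ∃ x : G, qv t q e = x ∧ ∀ y, qv t q (qmulN y e) = qv t q y * x := by
        have h0 : qmulN 0 e = e := by revert e; decide +kernel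
        refine ⟨_, rfl, fun y => ?_⟩
        rcases List.mem_cons.1 he with rfl | he'
        · rw [← hC.qv_mul_256, ← h0, ← hC.qv_mul_256, qv_zero', one_mul]
        · obtain ⟨j, rfl⟩ : ∃ j : Fin 8, 2 ^ j.val = e :=
            (by decide : ∀ e ∈ stdImg, ∃ j : Fin 8, 2 ^ j.val = e) e he'
          rw [← hC.qv_mul_single, ← h0, ← hC.qv_mul_single, qv_zero', one_mul]
      rw [← mul_assoc, Q8.mul_n (a * b), hs, ih, Q8.mul_n b, hs, mul_assoc])

theorem QGens.qhom_apply (a : Q8) : hC.qhom a = qv t q a.n := rfl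

theorem QGens.qhom_q (i : Fin 8) (h : 2 ^ i.val < 512) : hC.qhom ⟨2 ^ i.val, h⟩ = q i := by
  rw [hC.qhom_apply, ← one_mul (q i), ← qv_zero', hC.qv_mul_single]
  exact congrArg _ ((by decide +kernel : ∀ i : Fin 8, 2 ^ i.val = qmulN 0 (2 ^ i.val)) i)

theorem QGens.qhom_zt : hC.qhom zt = t := by
  have e := hC.qv_mul_256 0
  rw [qv_zero', one_mul, (by decide +kernel : qmulN 0 256 = 256)] at e
  rw [hC.qhom_apply]
  exact e.symm

omit hC in
theorem qv_qword' (v : ℕ) (hv : v < 256) : qword q v = qv t q v := by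
  have h8 : v.testBit 8 = false := Nat.testBit_lt_two_pow (by omega)
  rw [qv, h8, show bpow t false = (1 : G) from rfl, mul_one, qword]
  simp [List.finRange, pref, bpow, List.ofFn_succ, mul_assoc]

end QPart

variable (hC : Pre t q a)
include hC

theorem Pre.act_auto (k : Fin 7) : ∀ x : Q8, a k * hC.toQGens.qhom x * a k = hC.toQGens.qhom (autA k x) := by
  refine q8_induction (P := fun x => a k * hC.toQGens.qhom x * a k = hC.toQGens.qhom (autA k x)) ?_ ?_
  · rw [map_one, map_one, map_one, mul_one, hC.a_sq]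
  · intro x e he ih
    rw [map_mul, map_mul, map_mul,
      show a k * (hC.toQGens.qhom x * hC.toQGens.qhom ⟨e, gen_lt e he⟩) * a k =
        a k * hC.toQGens.qhom x * a k * (a k * hC.toQGens.qhom ⟨e, gen_lt e he⟩ * a k) by
        simp only [mul_assoc]; rw [← mul_assoc (a k) (a k), hC.a_sq, one_mul], ih]
    congr 1
    rcases List.mem_cons.1 he with rfl | he'
    · have hz : (⟨256, gen_lt 256 he⟩ : Q8) = zt := rfl
      rw [hz, map_zt, hC.toQGens.qhom_zt, ← hC.t_comm_a, mul_assoc, hC.a_sq, mul_one]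
    · obtain ⟨i, rfl⟩ : ∃ i : Fin 8, 2 ^ i.val = e :=
        (by decide : ∀ e ∈ stdImg, ∃ j : Fin 8, 2 ^ j.val = e) e he'
      rw [hC.toQGens.qhom_q, hC.act k i, qv_qword' _ ((by decide : ∀ k i, actTbl k i < 256) k i)]
      have hn : (autA k ⟨2 ^ i.val, gen_lt _ he⟩).n =
          qmulN (actTbl k i) (if (sgnTbl k).testBit i.val then 256 else 0) :=
        (by decide +kernel : ∀ (k : Fin 7) (i : Fin 8), appL (autImg k) (2 ^ i.val) =
          qmulN (actTbl k i) (if (sgnTbl k).testBit i.val then 256 else 0)) k i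
      rw [hC.toQGens.qhom_apply, hn]
      cases (sgnTbl k).testBit i.val
      · simp only [Bool.false_eq_true, if_false]
        rw [mul_one, show qmulN (actTbl k i) 0 = actTbl k i from
          (by decide +kernel : ∀ (k : Fin 7) (i : Fin 8), qmulN (actTbl k i) 0 = actTbl k i) k i]
      · simp only [if_true]
        rw [hC.toQGens.qv_mul_256]

/-- **The coordinates**: an embedding of the code group onto the centraliser. -/
theorem Pre.exists_phi : ∃ φ : C0 →* G, Function.Injective φ ∧
    φ.range = Subgroup.centralizer ({t} : Set G) ∧ φ (SemidirectProduct.inl zt) = t ∧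
    (∀ i : Fin 8, φ (genC ⟨i.val, by omega⟩) = q i) ∧
    ∀ k : Fin 7, φ (genC ⟨8 + k.val, by omega⟩) = a k := by
  classical
  let A := Subgroup.closure (Set.range a)
  obtain ⟨hfinA, hleA⟩ := card_closure_le a hC.a_sq hC.a_comm hC.a_braid hC.cox
  haveI := hfinA
  let P : Subgroup (MulAut Q8 × G) := Subgroup.closure (Set.range fun k => (autA k, a k))
  have hP : ∀ p ∈ P, (∀ x, hC.toQGens.qhom (p.1 x) = p.2 * hC.toQGens.qhom x * p.2⁻¹) ∧ p.1 ∈ W ∧ p.2 ∈ A := by
    intro p hp
    induction hp using Subgroup.closure_induction with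
    | mem p hp =>
      obtain ⟨k, rfl⟩ := hp
      exact ⟨fun x => by rw [inv_eq_of_mul_eq_one_left (hC.a_sq k)]; exact (hC.act_auto k x).symm,
        Subgroup.subset_closure ⟨k, rfl⟩, Subgroup.subset_closure ⟨k, rfl⟩⟩
    | one => exact ⟨fun x => by simp, one_mem _, one_mem _⟩
    | mul p r _ _ hp hr =>
      refine ⟨fun x => ?_, mul_mem hp.2.1 hr.2.1, mul_mem hp.2.2 hr.2.2⟩
      show hC.toQGens.qhom (p.1 (r.1 x)) = _
      rw [hp.1, hr.1, Prod.snd_mul]
      group
    | inv p _ hp =>
      refine ⟨fun x => ?_, inv_mem hp.2.1, inv_mem hp.2.2⟩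
      show hC.toQGens.qhom (p.1⁻¹ x) = p.2⁻¹ * hC.toQGens.qhom x * p.2⁻¹⁻¹
      have := hp.1 (p.1⁻¹ x)
      rw [MulAut.apply_inv_self] at this
      rw [this]
      group
  have hQt : ∀ x : Q8, hC.toQGens.qhom x * t = t * hC.toQGens.qhom x := fun x => by
    have h := congrArg hC.toQGens.qhom (show x * zt = zt * x from Q8.ext
      ((List.all_eq_true.1 (by decide +kernel : ((List.range 512).all fun y =>
        Nat.beq (qmulN y 256) (qmulN 256 y)) = true) x.n (List.mem_range.2 x.lt)) |> Nat.eq_of_beq_eq_true))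
    rwa [map_mul, map_mul, hC.toQGens.qhom_zt] at h
  have hmemC : ∀ x, x ∈ Subgroup.centralizer ({t} : Set G) →
      ∃ (v : Q8) (p : P), hC.toQGens.qhom v * p.1.2 = x := by
    intro x hx
    rw [← hC.gen] at hx
    induction hx using Subgroup.closure_induction with
    | mem x hx =>
      rcases hx with (rfl | ⟨i, rfl⟩) | ⟨k, rfl⟩
      · exact ⟨zt, 1, by rw [hC.toQGens.qhom_zt]; exact mul_one _⟩
      · exact ⟨⟨2 ^ i.val, (Nat.pow_lt_pow_right (by norm_num) i.2).trans_le (by norm_num)⟩, 1,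
          by rw [hC.toQGens.qhom_q]; exact mul_one _⟩
      · exact ⟨1, ⟨_, Subgroup.subset_closure ⟨k, rfl⟩⟩, by rw [map_one, one_mul]⟩
    | one => exact ⟨1, 1, by rw [map_one]; exact one_mul _⟩
    | mul x y _ _ hx hy =>
      obtain ⟨v, p, rfl⟩ := hx
      obtain ⟨w, r, rfl⟩ := hy
      refine ⟨v * p.1.1 w, p * r, ?_⟩
      rw [map_mul, (hP p.1 p.2).1]
      show _ = hC.toQGens.qhom v * p.1.2 * (hC.toQGens.qhom w * r.1.2)
      simp only [Subgroup.coe_mul, Prod.snd_mul]
      group
    | inv x _ hx =>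
      obtain ⟨v, p, rfl⟩ := hx
      refine ⟨p.1.1⁻¹ v⁻¹, p⁻¹, ?_⟩
      rw [show p.1.1⁻¹ = (p⁻¹ : P).1.1 from rfl, (hP _ (p⁻¹).2).1, map_inv]
      simp only [Subgroup.coe_inv, Prod.snd_inv]
      group
  -- the two projections of `P`
  let f₁ : P →* ↥W := MonoidHom.mk' (fun p => ⟨p.1.1, (hP p.1 p.2).2.1⟩) (fun _ _ => rfl)
  let f₂ : P →* ↥A := MonoidHom.mk' (fun p => ⟨p.1.2, (hP p.1 p.2).2.2⟩) (fun _ _ => rfl)
  have hs₁ : Function.Surjective f₁ := fun w => by
    have h : W ≤ P.map (MonoidHom.fst _ _) := (Subgroup.closure_le _).2 (by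
      rintro _ ⟨k, rfl⟩
      exact ⟨_, Subgroup.subset_closure ⟨k, rfl⟩, rfl⟩)
    obtain ⟨p, hp, e⟩ := h w.2
    exact ⟨⟨p, hp⟩, Subtype.ext e⟩
  have hs₂ : Function.Surjective f₂ := fun w => by
    have h : A ≤ P.map (MonoidHom.snd _ _) := (Subgroup.closure_le _).2 (by
      rintro _ ⟨k, rfl⟩
      exact ⟨_, Subgroup.subset_closure ⟨k, rfl⟩, rfl⟩)
    obtain ⟨p, hp, e⟩ := h w.2
    exact ⟨⟨p, hp⟩, Subtype.ext e⟩
  haveI : Finite Q8 := inferInstance
  let F : Q8 × ↥A → G := fun z => hC.toQGens.qhom z.1 * (z.2 : G)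
  have hF : Function.Injective F := by
    have hsurj : ∀ x ∈ Subgroup.centralizer ({t} : Set G), ∃ z, F z = x := fun x hx => by
      obtain ⟨v, p, e⟩ := hmemC x hx
      exact ⟨(v, f₂ p), e⟩
    have hin : ∀ z, F z ∈ Subgroup.centralizer ({t} : Set G) := fun z => by
      refine mul_mem (Subgroup.mem_centralizer_singleton_iff.2 (hQt z.1)) ?_
      exact (Subgroup.closure_le _).2 (by
        rintro _ ⟨k, rfl⟩
        exact Subgroup.mem_centralizer_singleton_iff.2 (hC.t_comm_a k).symm) z.2.2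
    let F' : Q8 × ↥A → Subgroup.centralizer ({t} : Set G) := fun z => ⟨F z, hin z⟩
    have hF's : Function.Surjective F' := fun x => by
      obtain ⟨z, e⟩ := hsurj x.1 x.2
      exact ⟨z, Subtype.ext e⟩
    have h1 := Nat.card_le_card_of_surjective F' hF's
    rw [hC.card] at h1
    have h2 : Nat.card (Q8 × ↥A) = 512 * 1451520 := le_antisymm
      (by rw [Nat.card_prod, card_Q8]; exact Nat.mul_le_mul_left _ hleA) h1
    have hbij : Function.Bijective F' :=
      (Nat.bijective_iff_surjective_and_card F').2 ⟨hF's, by rw [h2, hC.card]⟩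
    exact fun z z' e => hbij.1 (Subtype.ext e)
  have hker : ∀ p : P, p.1.2 = 1 → p = 1 := fun p h => by
    have h1 : p.1.1 = 1 := MulEquiv.ext fun x => by
      have e : hC.toQGens.qhom (p.1.1 x) = hC.toQGens.qhom x := by rw [(hP p.1 p.2).1, h]; group
      exact congrArg Prod.fst (hF (a₁ := (p.1.1 x, 1)) (a₂ := (x, 1)) (congrArg (· * ((1 : ↥A) : G)) e))
    exact Subtype.ext (Prod.ext h1 h)
  have hinj₂ : Function.Injective f₂ := (injective_iff_map_eq_one f₂).2 fun p h =>
    hker p (congrArg Subtype.val h)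
  haveI : Finite P := Finite.of_injective f₂ hinj₂
  haveI : Finite ↥W := Finite.of_surjective f₁ hs₁
  have hinj₁ : Function.Injective f₁ :=
    ((Nat.bijective_iff_surjective_and_card f₁).2 ⟨hs₁, le_antisymm
      ((Nat.card_le_card_of_injective f₂ hinj₂).trans (hleA.trans card_W_ge))
      (Nat.card_le_card_of_surjective f₁ hs₁)⟩).1
  let e₁ : P ≃* ↥W := MulEquiv.ofBijective f₁ ⟨hinj₁, hs₁⟩
  let ψ : ↥W →* G := (A.subtype.comp f₂).comp e₁.symm.toMonoidHom
  have hψ : ∀ (w : ↥W) (x : Q8), hC.toQGens.qhom (W.subtype w x) = ψ w * hC.toQGens.qhom x * (ψ w)⁻¹ := fun w x => by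
    have h1 : (e₁.symm w).1.1 = w.1 := congrArg Subtype.val (e₁.apply_symm_apply w)
    show hC.toQGens.qhom (w.1 x) = _
    rw [← h1]
    exact (hP _ (e₁.symm w).2).1 x
  let φ : C0 →* G := SemidirectProduct.lift hC.toQGens.qhom ψ fun w => MonoidHom.ext (hψ w)
  have hφ : ∀ x : C0, φ x = F (x.left, f₂ (e₁.symm x.right)) := fun x => rfl
  refine ⟨φ, fun x y h => ?_, le_antisymm ?_ ?_, ?_, fun i => ?_, fun k => ?_⟩
  · rw [hφ, hφ] at h
    have := hF h
    exact SemidirectProduct.ext (congrArg Prod.fst this)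
      (e₁.symm.injective (hinj₂ (congrArg Prod.snd this)))
  · rintro _ ⟨x, rfl⟩
    rw [hφ]
    refine mul_mem (Subgroup.mem_centralizer_singleton_iff.2 (hQt _)) ?_
    exact (Subgroup.closure_le _).2 (by
      rintro _ ⟨k, rfl⟩
      exact Subgroup.mem_centralizer_singleton_iff.2 (hC.t_comm_a k).symm) (f₂ (e₁.symm x.right)).2
  · intro x hx
    obtain ⟨v, p, rfl⟩ := hmemC x hx
    refine ⟨⟨v, e₁ p⟩, ?_⟩
    rw [hφ, e₁.symm_apply_apply]
    rfl
  · exact (SemidirectProduct.lift_inl ..).trans hC.toQGens.qhom_zt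
  · rw [genC, dif_pos (show (⟨i.val, _⟩ : Fin 15).val < 8 from i.2)]
    exact (SemidirectProduct.lift_inl ..).trans (hC.toQGens.qhom_q i _)
  · rw [genC, dif_neg (show ¬ (⟨8 + k.val, _⟩ : Fin 15).val < 8 by simp)]
    refine (SemidirectProduct.lift_inr ..).trans ?_
    show ((f₂ (e₁.symm _) : ↥A) : G) = a k
    have : e₁.symm ⟨autA ⟨8 + k.val - 8, by omega⟩, Subgroup.subset_closure ⟨_, rfl⟩⟩ =
        ⟨(autA k, a k), Subgroup.subset_closure ⟨k, rfl⟩⟩ := by
      rw [MulEquiv.symm_apply_eq]
      exact Subtype.ext (congrArg autA (Fin.ext (by simp)))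
    rw [this]
    rfl

end Cfsg.Agent.Co2Type
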