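import Cfsg.Agent.Lib.Co2Type.Code.Auto
import Cfsg.Agent.Lib.Co2Type.Code.LowerData

/-!
The seven automorphisms generate a group of order at least that of `Sp₆(2)`.
-/

set_option autoImplicit false
set_option maxRecDepth 20000

namespace Cfsg.Agent.Co2Type.Code

open Cfsg.Agent.CosetCert

theorem levels_ok : levelsOK 512 LowerData.ps LowerData.levels = true := by decide +kernel

theorem ps_ok : ∀ k : Fin 7, ((List.range 512).all fun x =>
    Nat.beq (appL (autImg k) x) (pat (nthNat LowerData.ps k.val) x)) = true := by
  decide +kernel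

theorem ps_length : LowerData.ps.length = 7 := by decide +kernel

theorem prod_levels : prodM LowerData.levels = 1451520 := by decide +kernel

/-- Automorphisms as permutations of the codes. -/
def toPermHom : MulAut Q8 →* Equiv.Perm (Fin 512) where
  toFun φ := Q8.equivFin.symm.trans (φ.toEquiv.trans Q8.equivFin)
  map_one' := Equiv.ext fun c => Fin.ext rfl
  map_mul' φ ψ := Equiv.ext fun c => Fin.ext rfl

theorem toPermHom_injective : Function.Injective toPermHom := fun φ ψ h => MulEquiv.ext fun a => by
  have := congrArg (fun σ => σ (Q8.equivFin a)) h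
  exact Q8.equivFin.injective (by simpa [toPermHom] using this)

theorem card_W_ge : 1451520 ≤ Nat.card W := by
  have hreal : Realises (W.map toPermHom) LowerData.ps := fun y hy => by
    rw [ps_length] at hy
    refine ⟨toPermHom (autA ⟨y, hy⟩), ⟨_, Subgroup.subset_closure ⟨_, rfl⟩, rfl⟩, fun c => ?_⟩
    exact Nat.eq_of_beq_eq_true (List.all_eq_true.1 (ps_ok ⟨y, hy⟩) c.val (List.mem_range.2 c.2))
  have h := prodM_le LowerData.levels LowerData.ps (W.map toPermHom) hreal levels_ok
  rw [prod_levels, ← Nat.card_congr (W.equivMapOfInjective toPermHom toPermHom_injective).toEquiv] at h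
  exact h

theorem card_C0_ge : 512 * 1451520 ≤ Nat.card C0 := by
  rw [Nat.card_congr SemidirectProduct.equivProd, Nat.card_prod, card_Q8]
  exact Nat.mul_le_mul_left _ card_W_ge

end Cfsg.Agent.Co2Type.Code
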