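import Mathlib.Algebra.Group.Basic
import Mathlib.Tactic.NormNum
import Mathlib.Tactic.Group
import Mathlib.Data.Fintype.Card
import Mathlib.Data.Nat.Bitwise
import Mathlib.SetTheory.Cardinal.Finite

/-!
The extraspecial group of order `2^9` on the numbers below `512`: bit `i < 8` is the exponent of the `i`-th
coordinate, bit `8` that of the central involution; the coordinates `i`, `7 - i` do not commute.
-/

set_option autoImplicit false

namespace Cfsg.Agent.Co2Type.Code

/-- The cocycle. -/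
def beta (x y : ℕ) : Bool :=
  ((x.testBit 7 && y.testBit 0) ^^ (x.testBit 6 && y.testBit 1)) ^^
    ((x.testBit 5 && y.testBit 2) ^^ (x.testBit 4 && y.testBit 3))

/-- The central part. -/
def kz (b : Bool) : ℕ := if b then 256 else 0

/-- The cocycle as a number, for fast evaluation. -/
def betaN (x y : ℕ) : ℕ :=
  Nat.land (Nat.xor (Nat.xor (Nat.land (Nat.shiftRight x 7) y) (Nat.land (Nat.shiftRight x 6) (Nat.shiftRight y 1)))
    (Nat.xor (Nat.land (Nat.shiftRight x 5) (Nat.shiftRight y 2))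
      (Nat.land (Nat.shiftRight x 4) (Nat.shiftRight y 3)))) 1

/-- The product. -/
def qmulN (x y : ℕ) : ℕ := Nat.xor (Nat.xor x y) (Nat.shiftLeft (betaN x y) 8)

theorem qmulN_eq (x y : ℕ) : qmulN x y = x ^^^ y ^^^ kz (beta x y) := by
  have h : betaN x y = cond (beta x y) 1 0 := by
    apply Nat.eq_of_testBit_eq
    intro i
    show (((((x >>> 7) &&& y) ^^^ ((x >>> 6) &&& (y >>> 1))) ^^^
      (((x >>> 5) &&& (y >>> 2)) ^^^ ((x >>> 4) &&& (y >>> 3)))) &&& 1).testBit i = _
    rcases i with _ | i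
    · simp only [Nat.testBit_and, Nat.testBit_xor, Nat.testBit_shiftRight, beta]
      cases hb : (((x.testBit 7 && y.testBit 0) ^^ (x.testBit 6 && y.testBit 1)) ^^
        ((x.testBit 5 && y.testBit 2) ^^ (x.testBit 4 && y.testBit 3))) <;> simp_all
    · cases beta x y <;> simp [Nat.testBit_succ]
  show x ^^^ y ^^^ (betaN x y <<< 8) = _
  rw [h]
  cases beta x y <;> rfl

theorem kz_xor (a b : Bool) : kz (a ^^ b) = kz a ^^^ kz b := by cases a <;> cases b <;> rfl

theorem kz_testBit (b : Bool) (i : ℕ) (hi : i < 8) : (kz b).testBit i = false := by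
  cases b
  · simp [kz]
  · rw [kz, if_pos rfl, show (256 : ℕ) = 2 ^ 8 by norm_num, Nat.testBit_two_pow]
    simp; omega

theorem beta_left (x y z : ℕ) (b : Bool) : beta (x ^^^ y ^^^ kz b) z = (beta x z ^^ beta y z) := by
  simp only [beta, Nat.testBit_xor, kz_testBit b 7 (by norm_num), kz_testBit b 6 (by norm_num),
    kz_testBit b 5 (by norm_num), kz_testBit b 4 (by norm_num), Bool.xor_false]
  cases x.testBit 7 <;> cases x.testBit 6 <;> cases x.testBit 5 <;> cases x.testBit 4 <;>
    cases y.testBit 7 <;> cases y.testBit 6 <;> cases y.testBit 5 <;> cases y.testBit 4 <;>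
    cases z.testBit 0 <;> cases z.testBit 1 <;> cases z.testBit 2 <;> cases z.testBit 3 <;> rfl

theorem beta_right (x y z : ℕ) (b : Bool) : beta x (y ^^^ z ^^^ kz b) = (beta x y ^^ beta x z) := by
  simp only [beta, Nat.testBit_xor, kz_testBit b 0 (by norm_num), kz_testBit b 1 (by norm_num),
    kz_testBit b 2 (by norm_num), kz_testBit b 3 (by norm_num), Bool.xor_false]
  cases x.testBit 7 <;> cases x.testBit 6 <;> cases x.testBit 5 <;> cases x.testBit 4 <;>
    cases y.testBit 0 <;> cases y.testBit 1 <;> cases y.testBit 2 <;> cases y.testBit 3 <;>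
    cases z.testBit 0 <;> cases z.testBit 1 <;> cases z.testBit 2 <;> cases z.testBit 3 <;> rfl

theorem qmulN_assoc (x y z : ℕ) : qmulN (qmulN x y) z = qmulN x (qmulN y z) := by
  simp only [qmulN_eq, beta_left, beta_right, kz_xor]
  apply Nat.eq_of_testBit_eq
  intro i
  simp only [Nat.testBit_xor]
  cases x.testBit i <;> cases y.testBit i <;> cases z.testBit i <;>
    cases (kz (beta x y)).testBit i <;> cases (kz (beta x z)).testBit i <;>
    cases (kz (beta y z)).testBit i <;> rfl

theorem qmulN_lt {x y : ℕ} (hx : x < 512) (hy : y < 512) : qmulN x y < 512 :=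
  qmulN_eq x y ▸ Nat.xor_lt_two_pow (n := 9) (Nat.xor_lt_two_pow hx hy) (by cases beta x y <;> decide)

/-- The group. -/
@[ext] structure Q8 where
  /-- the code -/
  n : ℕ
  lt : n < 512

instance : DecidableEq Q8 := fun a b => decidable_of_iff (a.n = b.n) ⟨Q8.ext, fun h => h ▸ rfl⟩

/-- The numbers below `512`. -/
def Q8.equivFin : Q8 ≃ Fin 512 where
  toFun a := ⟨a.n, a.lt⟩
  invFun a := ⟨a.1, a.2⟩

instance : Fintype Q8 := Fintype.ofEquiv _ Q8.equivFin.symm

theorem card_Q8 : Nat.card Q8 = 512 := by rw [Nat.card_congr Q8.equivFin, Nat.card_fin]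

instance : One Q8 := ⟨⟨0, by norm_num⟩⟩

instance : Mul Q8 := ⟨fun a b => ⟨qmulN a.n b.n, qmulN_lt a.lt b.lt⟩⟩

instance : Inv Q8 := ⟨fun a => ⟨a.n ^^^ kz (beta a.n a.n),
  Nat.xor_lt_two_pow (n := 9) a.lt (by cases beta a.n a.n <;> decide)⟩⟩

theorem Q8.mul_n (a b : Q8) : (a * b).n = qmulN a.n b.n := rfl

theorem Q8.one_n : (1 : Q8).n = 0 := rfl

instance : Group Q8 where
  mul_assoc a b c := Q8.ext (qmulN_assoc a.n b.n c.n)
  one_mul a := Q8.ext (by simp [Q8.mul_n, Q8.one_n, qmulN_eq, beta, kz])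
  mul_one a := Q8.ext (by simp [Q8.mul_n, Q8.one_n, qmulN_eq, beta, kz])
  inv_mul_cancel a := Q8.ext (by
    show qmulN (a.n ^^^ kz (beta a.n a.n)) a.n = 0
    have h : beta (a.n ^^^ kz (beta a.n a.n)) a.n = beta a.n a.n := by
      have := beta_left a.n 0 a.n (beta a.n a.n)
      rw [Nat.xor_zero] at this
      simpa [beta] using this
    rw [qmulN_eq, h]
    apply Nat.eq_of_testBit_eq
    intro i
    simp only [Nat.testBit_xor, Nat.zero_testBit]
    cases a.n.testBit i <;> cases (kz (beta a.n a.n)).testBit i <;> rfl)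

end Cfsg.Agent.Co2Type.Code
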