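import Cfsg.Agent.Lib.Co2Type.Code.Roots.Data
import Mathlib.GroupTheory.OrderOfElement

/-!
The roots of the code group: the tables are closed under conjugation, so they list the roots.
-/

set_option autoImplicit false
set_option maxRecDepth 100000

namespace Cfsg.Agent.Co2Type.Code

namespace Roots

/-- The nine digits of a packed code. -/
noncomputable def digit (x i : ℕ) : ℕ := Nat.mod (Nat.shiftRight x (Nat.mul 9 i)) 512

/-- Equality of lists of numbers. -/
noncomputable def beqL (l : List ℕ) : List ℕ → Bool :=
  List.rec (motive := fun _ => List ℕ → Bool)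
    (fun m => List.rec (motive := fun _ => Bool) true (fun _ _ _ => false) m)
    (fun a _ ih m => List.rec (motive := fun _ => Bool) false (fun b m' _ => Nat.beq a b && ih m') m) l

theorem beqL_eq : ∀ l m : List ℕ, beqL l m = true → l = m
  | [], [], _ => rfl
  | [], _ :: _, h => absurd h Bool.false_ne_true
  | _ :: _, [], h => absurd h Bool.false_ne_true
  | a :: l, b :: m, h => by
    have h' : (Nat.beq a b && beqL l m) = true := h
    rw [Bool.and_eq_true] at h'
    rw [Nat.eq_of_beq_eq_true h'.1, beqL_eq l m h'.2]

/-- Equality of codes. -/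
noncomputable def beqC (a b : ℕ × List ℕ) : Bool := Nat.beq a.1 b.1 && beqL a.2 b.2

theorem beqC_eq {a b : ℕ × List ℕ} (h : beqC a b = true) : a = b := by
  rw [beqC, Bool.and_eq_true] at h
  exact Prod.ext (Nat.eq_of_beq_eq_true h.1) (beqL_eq _ _ h.2)

/-- The code of index `i`. -/
noncomputable def rootC (i : ℕ) : ℕ × List ℕ :=
  let x := Nat.mod (Nat.shiftRight tbl (Nat.mul 81 i)) 2417851639229258349412352
  (digit x 0, [digit x 1, digit x 2, digit x 3, digit x 4, digit x 5, digit x 6, digit x 7, digit x 8])

/-- The index of the image under a generator. -/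
noncomputable def nxt (i : ℕ) (j : Fin 4) : ℕ :=
  Nat.mod (Nat.shiftRight nxtTbl (Nat.add (Nat.mul 48 i) (Nat.mul 12 j.val))) 4096

/-- The parent of an index. -/
noncomputable def par (i : ℕ) : ℕ := Nat.mod (Nat.shiftRight parTbl (Nat.mul 14 i)) 16384

/-- The generators. -/
noncomputable def tok (j : Fin 4) : C0 := el (tokW j)

theorem tok_code : ∀ j, code (tok j) = tokC j := fun j => by
  rw [tok, code_el]
  revert j
  decide +kernel

/-- The inverse generators. -/
theorem tok_inv : ∀ j, (tok j)⁻¹ = el (tokW j).reverse := fun j => by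
  rw [tok, el, el, List.map_reverse, eq_comm, ← mul_eq_one_iff_eq_inv]
  have h : ∀ l : List (Fin 15), (l.map genC).reverse.prod * (l.map genC).prod = 1 := fun l => by
    induction l with
    | nil => simp
    | cons z l ih =>
      have hz : genC z * genC z = 1 := code_injective (by
        rw [code_mul, code_gen, code_one]
        revert z
        decide +kernel)
      rw [List.map_cons, List.reverse_cons, List.prod_append, List.prod_singleton, List.prod_cons,
        mul_assoc, ← mul_assoc (genC z), hz, one_mul, ih]
  exact h _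

/-- One closure check. -/
noncomputable def closedAt (j : Fin 4) (i : ℕ) : Bool :=
  Nat.blt (nxt i j) 2269 && beqC (mulC (tokC j) (rootC i)) (mulC (rootC (nxt i j)) (tokC j))

theorem closed0 : ((List.range 2269).all (closedAt 0)) = true := by decide +kernel

theorem closed1 : ((List.range 2269).all (closedAt 1)) = true := by decide +kernel

theorem closed2 : ((List.range 2269).all (closedAt 2)) = true := by decide +kernel

theorem closed3 : ((List.range 2269).all (closedAt 3)) = true := by decide +kernel

/-- The tables of a class are trees over their starts. -/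
noncomputable def treeAt (i : ℕ) : Bool :=
  let j : Fin 4 := ⟨par i % 4, Nat.mod_lt _ (by norm_num)⟩
  let p := par i / 4
  Nat.beq i 0 || Nat.beq i 1 || Nat.beq i 1009 ||
    (Nat.blt p i && ((Nat.blt i 1009 && Nat.ble 1 p) || (Nat.ble 1009 i && Nat.ble 1009 p)) &&
      beqC (mulC (mulC (tokC j) (rootC p)) (codeW (tokW j).reverse)) (rootC i))

theorem tree : ((List.range 2269).all treeAt) = true := by decide +kernel

theorem start : rootC 0 = codeW tauW ∧ rootC 1 = codeW rootAW ∧ rootC 1009 = codeW alphaW := by
  decide +kernel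

theorem closed (j : Fin 4) {i : ℕ} (hi : i < 2269) :
    nxt i j < 2269 ∧ mulC (tokC j) (rootC i) = mulC (rootC (nxt i j)) (tokC j) := by
  have h : closedAt j i = true := by
    have hi' := List.mem_range.2 hi
    fin_cases j
    exacts [List.all_eq_true.1 closed0 i hi', List.all_eq_true.1 closed1 i hi',
      List.all_eq_true.1 closed2 i hi', List.all_eq_true.1 closed3 i hi']
  rw [closedAt, Bool.and_eq_true, Nat.blt_eq] at h
  exact ⟨h.1, beqC_eq h.2⟩

/-- The element of an index and its class. -/
theorem exists_code : ∀ i < 2269, ∃ c : C0, code c = rootC i ∧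
    (i = 0 → c = tau) ∧ (1 ≤ i → i ≤ 1008 → IsConj (el rootAW) c) ∧ (1009 ≤ i → IsConj alpha c) := by
  intro i
  induction i using Nat.strong_induction_on with
  | _ i ih =>
    intro hi
    have h := List.all_eq_true.1 tree i (List.mem_range.2 hi)
    simp only [treeAt, Bool.or_eq_true, Bool.and_eq_true, Nat.beq_eq, Nat.blt_eq, Nat.ble_eq] at h
    rcases h with ((h | h) | h) | ⟨⟨hp, hcl⟩, he⟩
    · subst h
      exact ⟨tau, by rw [tau, code_el, start.1], fun _ => rfl, by omega, by omega⟩
    · subst h
      exact ⟨el rootAW, by rw [code_el, start.2.1], by omega, fun _ _ => IsConj.refl _, by omega⟩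
    · subst h
      exact ⟨alpha, by rw [alpha, code_el, start.2.2], by omega, by omega, fun _ => IsConj.refl _⟩
    · set j : Fin 4 := ⟨par i % 4, Nat.mod_lt _ (by norm_num)⟩
      obtain ⟨c, hc, -, hA, hB⟩ := ih _ hp (hp.trans hi)
      refine ⟨tok j * c * (tok j)⁻¹, ?_, by omega, fun h1 h2 => ?_, fun h1 => ?_⟩
      · rw [code_mul, code_mul, tok_code, hc, tok_inv, code_el]
        exact beqC_eq he
      · exact (hA (by omega) (by omega)).trans (isConj_iff.2 ⟨tok j, rfl⟩)
      · exact (hB (by omega)).trans (isConj_iff.2 ⟨tok j, rfl⟩)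

/-- The image of a listed code under a generator is listed. -/
theorem conj_tok (j : Fin 4) {i : ℕ} (hi : i < 2269) {c : C0} (hc : code c = rootC i) :
    ∃ i' < 2269, code (tok j * c * (tok j)⁻¹) = rootC i' := by
  obtain ⟨hn, h⟩ := closed j hi
  obtain ⟨d, hd, -⟩ := exists_code _ hn
  refine ⟨_, hn, ?_⟩
  have e : tok j * c = d * tok j := code_injective (by rw [code_mul, code_mul, tok_code, hc, hd, h])
  rw [e, mul_inv_cancel_right, hd]

/-- Generation. -/
theorem genW_eq : ∀ z : Fin 15, codeW ((genW z).flatMap tokW) = genCode z := by decide +kernel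

theorem el_flat : ∀ l : List (Fin 4), el (l.flatMap tokW) = (l.map tok).prod
  | [] => rfl
  | j :: l => by rw [List.flatMap_cons, el_append, el_flat l, List.map_cons, List.prod_cons, tok]

theorem closure_tok : Subgroup.closure (Set.range tok) = (⊤ : Subgroup C0) := by
  set S := Subgroup.closure (Set.range tok)
  have hg : ∀ z, genC z ∈ S := fun z => by
    have : genC z = el ((genW z).flatMap tokW) := code_injective (by rw [code_gen, code_el, genW_eq])
    rw [this, el_flat]
    exact S.list_prod_mem fun x hx => by
      obtain ⟨j, -, rfl⟩ := List.mem_map.1 hx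
      exact Subgroup.subset_closure ⟨j, rfl⟩
  rw [eq_top_iff]
  intro x _
  rw [← SemidirectProduct.inl_left_mul_inr_right x]
  refine mul_mem ?_ ?_
  · refine q8_induction (P := fun a => (SemidirectProduct.inl a : C0) ∈ S) (by simp [S.one_mem]) ?_ x.left
    intro a e he ha
    rw [map_mul]
    refine mul_mem ha ?_
    rcases List.mem_cons.1 he with rfl | he
    · have : (SemidirectProduct.inl ⟨256, gen_lt 256 List.mem_cons_self⟩ : C0) = el [0, 7, 0, 7] :=
        code_injective (by rw [code_el]; decide +kernel)
      rw [this]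
      exact S.list_prod_mem fun y hy => by
        obtain ⟨z, -, rfl⟩ := List.mem_map.1 hy
        exact hg z
    · obtain ⟨i, hi, rfl⟩ : ∃ i < 8, 2 ^ i = e := by revert e; decide
      convert hg ⟨i, by omega⟩ using 1
      rw [genC, dif_pos hi]
  · obtain ⟨w, hw⟩ := x.right
    induction hw using Subgroup.closure_induction with
    | mem w hw =>
      obtain ⟨k, rfl⟩ := hw
      convert hg ⟨k.val + 8, by omega⟩ using 1
      rw [genC, dif_neg (by simp)]
      exact congrArg _ (Subtype.ext (by simp))
    | one => exact (show (SemidirectProduct.inr (1 : ↥W) : C0) = 1 from map_one _) ▸ S.one_mem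
    | mul a b ha hb iha ihb =>
      exact (show (SemidirectProduct.inr (⟨a, ha⟩ * ⟨b, hb⟩ : ↥W) : C0) = _ from map_mul _ _ _) ▸ mul_mem iha ihb
    | inv a ha iha =>
      exact (show (SemidirectProduct.inr (⟨a, ha⟩⁻¹ : ↥W) : C0) = _ from map_inv _ _) ▸ inv_mem iha

local instance : Finite (MulAut Q8) := Finite.of_injective (fun e => (e : Q8 → Q8)) DFunLike.coe_injective

local instance : Finite C0 := Finite.of_equiv _ SemidirectProduct.equivProd.symm

theorem conj_mem {c d : C0} (h : IsConj c d) (hc : ∃ i < 2269, code c = rootC i) :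
    ∃ i < 2269, code d = rootC i := by
  obtain ⟨g, rfl⟩ := isConj_iff.1 h
  have hg : g ∈ Submonoid.closure (Set.range tok) := by
    rw [← Subgroup.closure_toSubmonoid_of_finite, closure_tok]
    trivial
  clear h
  induction hg using Submonoid.closure_induction generalizing c with
  | mem x hx =>
    obtain ⟨i, hi, hc⟩ := hc
    obtain ⟨j, rfl⟩ := hx
    exact conj_tok j hi hc
  | one => simpa using hc
  | mul x y _ _ hx hy =>
    rw [show x * y * c * (x * y)⁻¹ = x * (y * c * y⁻¹) * x⁻¹ by group]
    exact hx (hy hc)

/-- The roots are the listed codes. -/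
theorem root_iff {c : C0} : Root c ↔ ∃ i < 2269, code c = rootC i := by
  constructor
  · rintro (rfl | h | h)
    · exact ⟨0, by norm_num, by rw [tau, code_el, start.1]⟩
    · exact conj_mem h ⟨1, by norm_num, by rw [code_el, start.2.1]⟩
    · exact conj_mem h ⟨1009, by norm_num, by rw [alpha, code_el, start.2.2]⟩
  · rintro ⟨i, hi, hc⟩
    obtain ⟨d, hd, h0, hA, hB⟩ := exists_code i hi
    obtain rfl : c = d := code_injective (hc.trans hd.symm)
    rcases Nat.lt_or_ge i 1 with h | h
    · exact Or.inl (h0 (by omega))
    rcases Nat.lt_or_ge i 1009 with h' | h'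
    · exact Or.inr (Or.inl (hA h (by omega)))
    · exact Or.inr (Or.inr (hB h'))

end Roots

end Cfsg.Agent.Co2Type.Code
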